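/-
Five marked points of `Fin n` and even permutations moving them.
-/
import Cfsg.Agent.Lib.BoundedPres.Alt

set_option autoImplicit false
set_option linter.unusedSectionVars false

namespace Cfsg.Agent.SLnPresentation

open Equiv

variable {n : ℕ}

/-- The five marked points. -/
def q (hn : 5 ≤ n) : Fin 5 ↪ Fin n := Fin.castLEEmb hn

variable (hn : 5 ≤ n)

theorem q_ne {i j : Fin 5} (h : i ≠ j) : q hn i ≠ q hn j := (q hn).injective.ne h

/-- The permutations of the five marked points. -/
noncomputable def five : alternatingGroup (Fin 5) →* alternatingGroup (Fin n) :=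
  ((Perm.viaEmbeddingHom (q hn)).comp (alternatingGroup (Fin 5)).subtype).codRestrict _ fun g => by
    rw [Perm.mem_alternatingGroup, MonoidHom.comp_apply, Perm.viaEmbeddingHom_apply, BoundedPres.sign_via]
    exact g.2

theorem five_q (π : alternatingGroup (Fin 5)) (i : Fin 5) :
    (five hn π : Perm (Fin n)) (q hn i) = q hn ((π : Perm (Fin 5)) i) :=
  Perm.viaEmbedding_apply _ _ _

/-- Any injective tuple of marked points can be moved to any other. -/
theorem exists_map {k : ℕ} (f g : Fin k ↪ Fin n) : ∃ σ : Perm (Fin n), ∀ i, σ (f i) = g i := by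
  classical
  let e : {x // x ∈ Set.range f} ≃ {x // x ∈ Set.range g} :=
    (Equiv.ofInjective f f.injective).symm.trans (Equiv.ofInjective g g.injective)
  refine ⟨e.extendSubtype, fun i => ?_⟩
  rw [Equiv.extendSubtype_apply_of_mem e (f i) ⟨i, rfl⟩]
  simp [e, Equiv.ofInjective_symm_apply]

/-- An even permutation moving the first three marked points to any three points. -/
theorem exists_triple (i j l : Fin n) (hij : i ≠ j) (hjl : j ≠ l) (hil : i ≠ l) :
    ∃ π : alternatingGroup (Fin n), (π : Perm (Fin n)) (q hn 0) = i ∧ (π : Perm (Fin n)) (q hn 1) = j ∧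
      (π : Perm (Fin n)) (q hn 2) = l := by
  obtain ⟨σ, hσ⟩ := exists_map ((Fin.castLEEmb (by omega : 3 ≤ 5)).trans (q hn))
    ⟨![i, j, l], by intro a b; fin_cases a <;> fin_cases b <;> simp [hij, hjl, hil, hij.symm, hjl.symm, hil.symm]⟩
  have h0 : σ (q hn 0) = i := hσ 0
  have h1 : σ (q hn 1) = j := hσ 1
  have h2 : σ (q hn 2) = l := hσ 2
  rcases Int.units_eq_one_or (Perm.sign σ) with e | e
  · exact ⟨⟨σ, e⟩, h0, h1, h2⟩
  · have hs : ∀ a : Fin 5, a ≠ 3 → a ≠ 4 → swap (q hn 3) (q hn 4) (q hn a) = q hn a := fun a h3 h4 =>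
      swap_apply_of_ne_of_ne (q_ne hn h3) (q_ne hn h4)
    refine ⟨⟨σ * swap (q hn 3) (q hn 4), ?_⟩, ?_, ?_, ?_⟩
    · rw [Perm.mem_alternatingGroup, map_mul, e, Perm.sign_swap (q_ne hn (by decide))]; decide
    all_goals rw [Perm.mul_apply, hs _ (by decide) (by decide)]
    exacts [h0, h1, h2]

/-- An even permutation moving the first two marked points to any two points. -/
theorem exists_pair (i j : Fin n) (hij : i ≠ j) :
    ∃ π : alternatingGroup (Fin n), (π : Perm (Fin n)) (q hn 0) = i ∧ (π : Perm (Fin n)) (q hn 1) = j := by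
  obtain ⟨l, hl⟩ : ∃ l, l ∉ ({i, j} : Finset (Fin n)) := Finset.exists_mem_notMem_of_card_lt_card (t := Finset.univ)
    (by rw [Finset.card_pair hij, Finset.card_univ, Fintype.card_fin]; omega) |>.imp fun _ h => h.2
  simp only [Finset.mem_insert, Finset.mem_singleton, not_or] at hl
  obtain ⟨π, h0, h1, -⟩ := exists_triple hn i j l hij (Ne.symm hl.2) (Ne.symm hl.1)
  exact ⟨π, h0, h1⟩

/-- The five points can be moved evenly to `i, j, k, l` and one more, up to a permutation of them. -/
theorem exists_quad (i j k l : Fin n) (hij : i ≠ j) (hik : i ≠ k) (hil : i ≠ l) (hjk : j ≠ k) (hjl : j ≠ l)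
    (hkl : k ≠ l) :
    ∃ σ : Perm (Fin n), σ (q hn 0) = i ∧ σ (q hn 1) = j ∧ σ (q hn 2) = k ∧ σ (q hn 3) = l := by
  obtain ⟨σ, hσ⟩ := exists_map ((Fin.castLEEmb (by omega : 4 ≤ 5)).trans (q hn))
    ⟨![i, j, k, l], by
      intro a b; fin_cases a <;> fin_cases b <;>
        simp [hij, hik, hil, hjk, hjl, hkl, hij.symm, hik.symm, hil.symm, hjk.symm, hjl.symm, hkl.symm]⟩
  exact ⟨σ, hσ 0, hσ 1, hσ 2, hσ 3⟩

/-- The cycle of three points. -/
def cyc5 : alternatingGroup (Fin 5) := ⟨swap 0 1 * swap 1 2, by rw [Perm.mem_alternatingGroup]; decide⟩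

/-- The double transposition. -/
def inv5 : alternatingGroup (Fin 5) := ⟨swap 0 1 * swap 3 4, by rw [Perm.mem_alternatingGroup]; decide⟩

/-- The exchange of two pairs. -/
def exch5 : alternatingGroup (Fin 5) := ⟨swap 0 2 * swap 1 3, by rw [Perm.mem_alternatingGroup]; decide⟩

theorem cyc5_three : cyc5 * cyc5 * cyc5 = 1 := by decide

theorem inv5_two : inv5 * inv5 = 1 := by decide

theorem inv5_cyc5 : inv5 * cyc5 * inv5⁻¹ = cyc5⁻¹ := by decide

/-- A map to the three first marked points. -/
def r (i : Fin 3) : Fin n := q hn (Fin.castLE (by decide : 3 ≤ 5) i)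

theorem five_cyc_r (i : Fin 3) : (five hn cyc5 : Perm (Fin n)) (r hn i) = r hn (i + 1) := by
  rw [r, five_q]
  congr 1
  revert i; decide

theorem five_inv_r (i : Fin 3) : (five hn inv5 : Perm (Fin n)) (r hn i) = r hn (swap 0 1 i) := by
  rw [r, five_q]
  congr 1
  revert i; decide

theorem five_inv_ne : five hn inv5 ≠ 1 := fun h => by
  have := five_q hn inv5 0
  rw [h, OneMemClass.coe_one, Perm.one_apply] at this
  exact absurd ((q hn).injective this) (by decide)

end Cfsg.Agent.SLnPresentation
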