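/-
A group generated by a root group, a torus element and a copy of the alternating group, with the
relations of `SL₃` on three points and one commutation, is no larger than `SL_n`.
-/
import Cfsg.Agent.Lib.SL3Presentation.Core
import Cfsg.Agent.Lib.SLnPresentation.Points
import Mathlib.GroupTheory.SpecificGroups.Alternating.Simple

set_option autoImplicit false
set_option linter.unusedSectionVars false

namespace Cfsg.Agent.SLnPresentation

open Equiv Cfsg.Agent.SL2Presentation Cfsg.Agent.SL3Presentation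

variable {F : Type*} [Field F] {G : Type*} [Group G] {n : ℕ}

/-- The root group, the torus and the alternating group. -/
structure Setup (ω : Fˣ) (n : ℕ) (G : Type*) [Group G] where
  hn : 5 ≤ n
  D : Data ω G
  a : alternatingGroup (Fin n) →* G
  w_eq : D.w = a (five hn cyc5)
  s_eq : D.s = a (five hn inv5)
  fixψ : ∀ π : alternatingGroup (Fin n), (π : Perm (Fin n)) (q hn 0) = q hn 0 →
    (π : Perm (Fin n)) (q hn 1) = q hn 1 → ∀ t, a π * D.ψ t * (a π)⁻¹ = D.ψ t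
  fixh : ∀ π : alternatingGroup (Fin n), (π : Perm (Fin n)) (q hn 0) = q hn 0 →
    (π : Perm (Fin n)) (q hn 1) = q hn 1 → a π * D.h * (a π)⁻¹ = D.h

namespace Setup

variable {ω : Fˣ} (S : Setup ω n G)

/-- The root groups. -/
noncomputable def X (i j : Fin n) (t : F) : G :=
  if h : i ≠ j then
    S.a (exists_pair S.hn i j h).choose * S.D.ψ t * (S.a (exists_pair S.hn i j h).choose)⁻¹
  else 1

theorem X_eq {π : alternatingGroup (Fin n)} {i j : Fin n} (h0 : (π : Perm (Fin n)) (q S.hn 0) = i)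
    (h1 : (π : Perm (Fin n)) (q S.hn 1) = j) (t : F) : S.X i j t = S.a π * S.D.ψ t * (S.a π)⁻¹ := by
  have hij : i ≠ j := by
    rw [← h0, ← h1]; exact (π : Perm (Fin n)).injective.ne (q_ne S.hn (by decide))
  rw [X, dif_pos hij]
  obtain ⟨e0, e1⟩ := (exists_pair S.hn i j hij).choose_spec
  set ρ := (exists_pair S.hn i j hij).choose
  have h := S.fixψ (ρ⁻¹ * π)
    (by rw [Subgroup.coe_mul, Subgroup.coe_inv, Perm.mul_apply, h0, ← e0, Perm.inv_def, Equiv.symm_apply_apply])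
    (by rw [Subgroup.coe_mul, Subgroup.coe_inv, Perm.mul_apply, h1, ← e1, Perm.inv_def, Equiv.symm_apply_apply]) t
  conv_lhs => rw [← h]
  rw [map_mul, map_inv]
  group

theorem X_conj (π : alternatingGroup (Fin n)) {i j : Fin n} (hij : i ≠ j) (t : F) :
    S.a π * S.X i j t * (S.a π)⁻¹ = S.X ((π : Perm (Fin n)) i) ((π : Perm (Fin n)) j) t := by
  obtain ⟨ρ, e0, e1⟩ := exists_pair S.hn i j hij
  rw [S.X_eq e0 e1, S.X_eq (π := π * ρ) (i := (π : Perm (Fin n)) i) (j := (π : Perm (Fin n)) j)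
    (by rw [Subgroup.coe_mul, Perm.mul_apply, e0]) (by rw [Subgroup.coe_mul, Perm.mul_apply, e1]), map_mul]
  group

theorem X_add {i j : Fin n} (hij : i ≠ j) (t u : F) : S.X i j (t + u) = S.X i j t * S.X i j u := by
  obtain ⟨ρ, e0, e1⟩ := exists_pair S.hn i j hij
  rw [S.X_eq e0 e1, S.X_eq e0 e1, S.X_eq e0 e1, S.D.add]
  group

theorem X01 (t : F) : S.X (q S.hn 0) (q S.hn 1) t = S.D.ψ t := by
  rw [S.X_eq (π := 1) (by simp) (by simp)]; simp

theorem r_inj : Function.Injective (r S.hn) := fun _ _ h => Fin.castLE_injective _ ((q S.hn).injective h)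

theorem X_r {i j : Fin 3} (hij : i ≠ j) (t : F) : S.D.x i j t = S.X (r S.hn i) (r S.hn j) t := by
  have hr : ∀ {i j : Fin 3}, i ≠ j → r S.hn i ≠ r S.hn j := fun h => S.r_inj.ne h
  have hw : ∀ {i j : Fin 3}, i ≠ j → ∀ t, S.D.w * S.X (r S.hn i) (r S.hn j) t * S.D.w⁻¹ =
      S.X (r S.hn (i + 1)) (r S.hn (j + 1)) t := fun h t => by
    rw [S.w_eq, S.X_conj _ (hr h), five_cyc_r, five_cyc_r]
  have hs : ∀ {i j : Fin 3}, i ≠ j → ∀ t, S.D.s * S.X (r S.hn i) (r S.hn j) t * S.D.s⁻¹ =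
      S.X (r S.hn (swap 0 1 i)) (r S.hn (swap 0 1 j)) t := fun h t => by
    rw [S.s_eq, S.X_conj _ (hr h), five_inv_r, five_inv_r]
  have e01 : ∀ t, S.D.ψ t = S.X (r S.hn 0) (r S.hn 1) t := fun t => (S.X01 t).symm
  have e10 : ∀ t, S.D.s * S.D.ψ t * S.D.s⁻¹ = S.X (r S.hn 1) (r S.hn 0) t := fun t => by
    rw [e01, hs (by decide)]; rfl
  fin_cases i <;> fin_cases j <;> simp at hij
  · exact e01 t
  · show S.D.w * (S.D.w * (S.D.s * S.D.ψ t * S.D.s⁻¹) * S.D.w⁻¹) * S.D.w⁻¹ = _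
    rw [e10, hw (by decide), hw (by decide)]; rfl
  · exact e10 t
  · show S.D.w * S.D.ψ t * S.D.w⁻¹ = _
    rw [e01, hw (by decide)]; rfl
  · show S.D.w * (S.D.w * S.D.ψ t * S.D.w⁻¹) * S.D.w⁻¹ = _
    rw [e01, hw (by decide), hw (by decide)]; rfl
  · show S.D.w * (S.D.s * S.D.ψ t * S.D.s⁻¹) * S.D.w⁻¹ = _
    rw [e10, hw (by decide)]; rfl

/-- `g` scales the root group `ij` by `χ`. -/
def Wt (g : G) (i j : Fin n) (χ : F) : Prop := ∀ t, g * S.X i j t * g⁻¹ = S.X i j (χ * t)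

theorem Wt.transport {g : G} {i j : Fin n} {χ : F} (h : S.Wt g i j χ) (π : alternatingGroup (Fin n))
    (hij : i ≠ j) : S.Wt (S.a π * g * (S.a π)⁻¹) ((π : Perm (Fin n)) i) ((π : Perm (Fin n)) j) χ := fun t => by
  rw [← S.X_conj π hij, ← S.X_conj π hij, ← h t]
  group

theorem wt_of_acts {g : G} {i j : Fin 3} {χ : F} (hij : i ≠ j) (h : S.D.Acts g i j χ) :
    S.Wt g (r S.hn i) (r S.hn j) χ := fun t => by
  rw [← S.X_r hij, ← S.X_r hij]; exact h t

theorem h20 : S.Wt S.D.h (q S.hn 2) (q S.hn 0) ((ω : F)⁻¹) := by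
  have h := Data.Acts.transport S.D (k := S.D.w * S.D.w) (i' := 2) (j' := 0) (fun a => by
    rw [Data.x20, Data.x01]; group) S.D.h1_01
  rw [Data.h1, show S.D.w * S.D.w * (S.D.w * S.D.h * S.D.w⁻¹) * (S.D.w * S.D.w)⁻¹ =
    S.D.w * (S.D.w * (S.D.w * S.D.h * S.D.w⁻¹) * S.D.w⁻¹) * S.D.w⁻¹ by group, Data.w_conj_three] at h
  exact S.wt_of_acts (by decide) h

theorem h02 : S.Wt S.D.h (q S.hn 0) (q S.hn 2) (ω : F) := S.wt_of_acts (i := 0) (j := 2) (by decide) S.D.h_02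

/-- The weights of `h` on a root group meeting the support of `h` once. -/
theorem h_out {l : Fin n} (h0 : l ≠ q S.hn 0) (h1 : l ≠ q S.hn 1) :
    S.Wt S.D.h l (q S.hn 0) ((ω : F)⁻¹) ∧ S.Wt S.D.h (q S.hn 0) l (ω : F) ∧
      (∃ χ, S.Wt S.D.h l (q S.hn 1) χ) ∧ ∃ χ, S.Wt S.D.h (q S.hn 1) l χ := by
  obtain ⟨π, e0, e1, e2⟩ := exists_triple S.hn (q S.hn 0) (q S.hn 1) l (q_ne S.hn (by decide)) h1.symm h0.symm
  have hc := S.fixh π e0 e1
  have key : ∀ {i j : Fin n} {χ : F}, i ≠ j → S.Wt S.D.h i j χ →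
      S.Wt S.D.h ((π : Perm (Fin n)) i) ((π : Perm (Fin n)) j) χ := fun {i j χ} hij h => by
    have := Wt.transport S h π hij
    rwa [hc] at this
  refine ⟨?_, ?_, ?_, ?_⟩
  · have := key (q_ne S.hn (by decide)) S.h20
    rwa [e0, e2] at this
  · have := key (q_ne S.hn (by decide)) S.h02
    rwa [e0, e2] at this
  · obtain ⟨χ, hχ⟩ := S.D.h_acts 2 1 (by decide)
    refine ⟨χ, ?_⟩
    have hq : S.Wt S.D.h (q S.hn 2) (q S.hn 1) χ := S.wt_of_acts (by decide) hχ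
    have := key (q_ne S.hn (by decide)) hq
    rwa [e1, e2] at this
  · obtain ⟨χ, hχ⟩ := S.D.h_acts 1 2 (by decide)
    refine ⟨χ, ?_⟩
    have hq : S.Wt S.D.h (q S.hn 1) (q S.hn 2) χ := S.wt_of_acts (by decide) hχ
    have := key (q_ne S.hn (by decide)) hq
    rwa [e1, e2] at this

variable (hrow : S.D.RowComm) (hcol : S.D.ColComm) (hK : ∀ a b, S.D.K a b)

include hrow hcol hK

theorem X_chain {i j l : Fin n} (hij : i ≠ j) (hjl : j ≠ l) (hil : i ≠ l) (t u : F) :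
    S.X i j t * S.X j l u = S.X i l (t * u) * S.X j l u * S.X i j t := by
  obtain ⟨π, rfl, rfl, rfl⟩ := exists_triple S.hn i j l hij hjl hil
  have h := hK t u
  rw [Data.K, S.X_r (by decide), S.X_r (by decide), S.X_r (by decide)] at h
  rw [← S.X_conj π (q_ne S.hn (by decide)), ← S.X_conj π (q_ne S.hn (by decide)),
    ← S.X_conj π (q_ne S.hn (by decide))]
  calc S.a π * S.X (q S.hn 0) (q S.hn 1) t * (S.a π)⁻¹ * (S.a π * S.X (q S.hn 1) (q S.hn 2) u * (S.a π)⁻¹)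
      = S.a π * (S.X (r S.hn 0) (r S.hn 1) t * S.X (r S.hn 1) (r S.hn 2) u) * (S.a π)⁻¹ := by
        show _ = S.a π * (S.X (q S.hn 0) (q S.hn 1) t * S.X (q S.hn 1) (q S.hn 2) u) * (S.a π)⁻¹
        group
    _ = _ := by
        rw [h]
        show S.a π * (S.X (q S.hn 0) (q S.hn 2) (t * u) * S.X (q S.hn 1) (q S.hn 2) u *
          S.X (q S.hn 0) (q S.hn 1) t) * (S.a π)⁻¹ = _
        group

theorem X_row {i j l : Fin n} (hij : i ≠ j) (hjl : j ≠ l) (hil : i ≠ l) (t u : F) :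
    Commute (S.X i j t) (S.X i l u) := by
  obtain ⟨π, rfl, rfl, rfl⟩ := exists_triple S.hn i j l hij hjl hil
  have h := (hrow t u).map (MulAut.conj (S.a π)).toMonoidHom
  simp only [MulEquiv.coe_toMonoidHom, MulAut.conj_apply, S.X_r (show (0 : Fin 3) ≠ 1 by decide),
    S.X_r (show (0 : Fin 3) ≠ 2 by decide)] at h
  rw [S.X_conj π (S.r_inj.ne (by decide)), S.X_conj π (S.r_inj.ne (by decide))] at h
  exact h

theorem X_col {i j l : Fin n} (hij : i ≠ j) (hjl : j ≠ l) (hil : i ≠ l) (t u : F) :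
    Commute (S.X j l t) (S.X i l u) := by
  obtain ⟨π, rfl, rfl, rfl⟩ := exists_triple S.hn i j l hij hjl hil
  have h := (hcol t u).map (MulAut.conj (S.a π)).toMonoidHom
  simp only [MulEquiv.coe_toMonoidHom, MulAut.conj_apply, S.X_r (show (1 : Fin 3) ≠ 2 by decide),
    S.X_r (show (0 : Fin 3) ≠ 2 by decide)] at h
  rw [S.X_conj π (S.r_inj.ne (by decide)), S.X_conj π (S.r_inj.ne (by decide))] at h
  exact h

theorem X_comm_expand {i j l : Fin n} (hij : i ≠ j) (hjl : j ≠ l) (hil : i ≠ l) (t : F) :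
    S.X i l t = S.X i j t * S.X j l 1 * (S.X i j t)⁻¹ * (S.X j l 1)⁻¹ := by
  rw [S.X_chain hrow hcol hK hij hjl hil, mul_one]
  group

theorem h_inv_out {k l : Fin n} (hkl : k ≠ l) (k0 : k ≠ q S.hn 0) (k1 : k ≠ q S.hn 1) (l0 : l ≠ q S.hn 0)
    (l1 : l ≠ q S.hn 1) : S.Wt S.D.h k l 1 := by
  intro t
  have hk := (S.h_out k0 k1).1
  have hl := (S.h_out l0 l1).2.1
  have hω : (ω : F) ≠ 0 := ω.ne_zero
  rw [one_mul]
  have e := S.X_chain hrow hcol hK k0 l0.symm hkl ((ω : F)⁻¹ * t) ((ω : F) * 1)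
  rw [show (ω : F)⁻¹ * t * ((ω : F) * 1) = t by field_simp, ← hk t, ← hl 1] at e
  have e' := S.X_comm_expand hrow hcol hK k0 l0.symm hkl t
  calc S.D.h * S.X k l t * S.D.h⁻¹
      = S.D.h * (S.X k (q S.hn 0) t * S.X (q S.hn 0) l 1 * (S.X k (q S.hn 0) t)⁻¹ * (S.X (q S.hn 0) l 1)⁻¹) *
          S.D.h⁻¹ := by rw [← e']
    _ = (S.D.h * S.X k (q S.hn 0) t * S.D.h⁻¹) * (S.D.h * S.X (q S.hn 0) l 1 * S.D.h⁻¹) *
          (S.D.h * S.X k (q S.hn 0) t * S.D.h⁻¹)⁻¹ * (S.D.h * S.X (q S.hn 0) l 1 * S.D.h⁻¹)⁻¹ := by group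
    _ = S.X k l t := by rw [e]; group

theorem h_wt (i j : Fin n) (hij : i ≠ j) : ∃ χ, S.Wt S.D.h i j χ := by
  by_cases hi0 : i = q S.hn 0 <;> by_cases hi1 : i = q S.hn 1
  · exact absurd (hi0.symm.trans hi1) (q_ne S.hn (by decide))
  · subst hi0
    by_cases hj1 : j = q S.hn 1
    · subst hj1; exact ⟨_, S.wt_of_acts (i := 0) (j := 1) (by decide) S.D.h_01⟩
    · exact ⟨_, (S.h_out hij.symm hj1).2.1⟩
  · subst hi1
    by_cases hj0 : j = q S.hn 0
    · subst hj0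
      obtain ⟨χ, hχ⟩ := S.D.h_acts 1 0 (by decide)
      exact ⟨χ, S.wt_of_acts (by decide) hχ⟩
    · exact (S.h_out hj0 hij.symm).2.2.2
  · by_cases hj0 : j = q S.hn 0
    · subst hj0; exact ⟨_, (S.h_out hi0 hi1).1⟩
    by_cases hj1 : j = q S.hn 1
    · subst hj1; exact (S.h_out hi0 hi1).2.2.1
    exact ⟨1, S.h_inv_out hrow hcol hK hij hi0 hi1 hj0 hj1⟩

variable (hspan : ∀ T : AddSubgroup F, (∀ k : ℕ, ((ω : F) ^ 2) ^ k ∈ T) → T = ⊤)
  (hquad : Commute (S.D.ψ 1) (S.X (q S.hn 2) (q S.hn 3) 1))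

include hspan hquad

theorem quad_base (t u : F) : Commute (S.X (q S.hn 0) (q S.hn 1) t) (S.X (q S.hn 2) (q S.hn 3) u) := by
  have h23 : q S.hn 2 ≠ q S.hn 3 := q_ne S.hn (by decide)
  have h01 : q S.hn 0 ≠ q S.hn 1 := q_ne S.hn (by decide)
  have hout : S.Wt S.D.h (q S.hn 2) (q S.hn 3) 1 :=
    S.h_inv_out hrow hcol hK h23 (q_ne S.hn (by decide)) (q_ne S.hn (by decide)) (q_ne S.hn (by decide))
      (q_ne S.hn (by decide))
  have h1 : S.Wt S.D.h (q S.hn 0) (q S.hn 1) ((ω : F) ^ 2) := S.wt_of_acts (i := 0) (j := 1) (by decide) S.D.h_01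
  set k' := S.a (five S.hn exch5) * S.D.h * (S.a (five S.hn exch5))⁻¹
  have e : ∀ i, (five S.hn exch5 : Perm (Fin n)) (q S.hn i) = q S.hn ((exch5 : Perm (Fin 5)) i) :=
    five_q S.hn exch5
  have hin : S.Wt k' (q S.hn 2) (q S.hn 3) ((ω : F) ^ 2) := by
    have := Wt.transport S h1 (five S.hn exch5) h01
    rwa [e, e] at this
  have hfix : S.Wt k' (q S.hn 0) (q S.hn 1) 1 := by
    have := Wt.transport S hout (five S.hn exch5) h23
    rwa [e, e] at this
  have wpow : ∀ {g : G} {i j : Fin n} {χ : F}, S.Wt g i j χ → ∀ m : ℕ, S.Wt (g ^ m) i j (χ ^ m) := by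
    intro g i j χ h m
    induction m with
    | zero => intro t; simp
    | succ m ih =>
      intro t
      calc g ^ (m + 1) * S.X i j t * (g ^ (m + 1))⁻¹ = g ^ m * (g * S.X i j t * g⁻¹) * (g ^ m)⁻¹ := by
            rw [pow_succ]; group
        _ = _ := by rw [h, ih, pow_succ, mul_assoc]
  -- both parameters
  have ext : ∀ {i j k l : Fin n}, i ≠ j → ∀ c : F, Commute (S.X i j 1) (S.X k l c) → ∀ {g : G},
      S.Wt g i j ((ω : F) ^ 2) → S.Wt g k l 1 → ∀ t, Commute (S.X i j t) (S.X k l c) := by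
    intro i j k l hij c hc g hg hg' t
    let T : AddSubgroup F :=
      { carrier := {z | Commute (S.X i j z) (S.X k l c)}
        add_mem' := fun {z z'} (hz : Commute (S.X i j z) _) (hz' : Commute (S.X i j z') _) => by
          show Commute (S.X i j (z + z')) _
          rw [S.X_add hij]; exact hz.mul_left hz'
        zero_mem' := by
          show Commute (S.X i j 0) _
          rw [psi_zero (S.X_add hij)]; exact Commute.one_left _
        neg_mem' := fun {z} (hz : Commute (S.X i j z) _) => by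
          show Commute (S.X i j (-z)) _
          rw [show S.X i j (-z) = (S.X i j z)⁻¹ from eq_inv_of_mul_eq_one_left (by
            rw [← S.X_add hij, neg_add_cancel, psi_zero (S.X_add hij)])]
          exact hz.inv_left }
    have hT : T = ⊤ := hspan T fun m => by
      have := hc.map (MulAut.conj (g ^ m)).toMonoidHom
      simp only [MulEquiv.coe_toMonoidHom, MulAut.conj_apply] at this
      rw [wpow hg, wpow hg', one_pow, one_mul, mul_one] at this
      exact this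
    exact (hT ▸ AddSubgroup.mem_top t : t ∈ T)
  have step : ∀ t, Commute (S.X (q S.hn 0) (q S.hn 1) t) (S.X (q S.hn 2) (q S.hn 3) 1) :=
    ext h01 1 (by rw [S.X01]; exact hquad) h1 hout
  exact (ext h23 t (step t).symm hin hfix u).symm

theorem X_quad {i j k l : Fin n} (hij : i ≠ j) (hik : i ≠ k) (hil : i ≠ l) (hjk : j ≠ k) (hjl : j ≠ l)
    (hkl : k ≠ l) (t u : F) : Commute (S.X i j t) (S.X k l u) := by
  have base : ∀ π : alternatingGroup (Fin n), ∀ t u : F,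
      Commute (S.X ((π : Perm (Fin n)) (q S.hn 0)) ((π : Perm (Fin n)) (q S.hn 1)) t)
        (S.X ((π : Perm (Fin n)) (q S.hn 2)) ((π : Perm (Fin n)) (q S.hn 3)) u) := fun π t u => by
    have h := (S.quad_base hrow hcol hK hspan hquad t u).map (MulAut.conj (S.a π)).toMonoidHom
    simp only [MulEquiv.coe_toMonoidHom, MulAut.conj_apply] at h
    rwa [S.X_conj π (q_ne S.hn (by decide)), S.X_conj π (q_ne S.hn (by decide))] at h
  obtain ⟨σ, e0, e1, e2, e3⟩ := exists_quad S.hn i j k l hij hik hil hjk hjl hkl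
  rcases Int.units_eq_one_or (Perm.sign σ) with e | e
  · have := base ⟨σ, e⟩ t u
    rwa [e0, e1, e2, e3] at this
  set m := σ (q S.hn 4) with hm
  have him : i ≠ m := by rw [← e0]; exact σ.injective.ne (q_ne S.hn (by decide))
  have hmj : m ≠ j := by rw [← e1]; exact σ.injective.ne (q_ne S.hn (by decide))
  have hev : ∀ a b : Fin 5, a ≠ b → σ * swap (q S.hn a) (q S.hn b) ∈ alternatingGroup (Fin n) := fun a b h => by
    rw [Perm.mem_alternatingGroup, map_mul, e, Perm.sign_swap (q_ne S.hn h)]; decide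
  have hsw : ∀ a b c : Fin 5, c ≠ a → c ≠ b → swap (q S.hn a) (q S.hn b) (q S.hn c) = q S.hn c :=
    fun a b c ha hb => swap_apply_of_ne_of_ne (q_ne S.hn ha) (q_ne S.hn hb)
  have c1 : ∀ t, Commute (S.X i m t) (S.X k l u) := fun t => by
    have := base ⟨_, hev 1 4 (by decide)⟩ t u
    simp only [Perm.mul_apply, swap_apply_left, hsw 1 4 0 (by decide) (by decide),
      hsw 1 4 2 (by decide) (by decide), hsw 1 4 3 (by decide) (by decide), e0, e2, e3, ← hm] at this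
    exact this
  have c2 : ∀ t, Commute (S.X m j t) (S.X k l u) := fun t => by
    have := base ⟨_, hev 0 4 (by decide)⟩ t u
    simp only [Perm.mul_apply, swap_apply_left, hsw 0 4 1 (by decide) (by decide),
      hsw 0 4 2 (by decide) (by decide), hsw 0 4 3 (by decide) (by decide), e1, e2, e3, ← hm] at this
    exact this
  rw [S.X_comm_expand hrow hcol hK him hmj hij]
  exact (((c1 t).mul_left (c2 1)).mul_left (c1 t).inv_left).mul_left (c2 1).inv_left

/-- Steinberg's relations. -/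
noncomputable def rels : Rels F n G where
  x := S.X
  add i j hij := S.X_add hij
  comm i j k l hij hkl hil hjk t u := by
    by_cases hik : i = k
    · subst hik
      by_cases hjl : j = l
      · subst hjl; rw [← S.X_add hij, add_comm, S.X_add hij]
      exact (S.X_row hrow hcol hK hij hjl hil t u).eq
    by_cases hjl : j = l
    · subst hjl
      exact (S.X_col hrow hcol hK (Ne.symm hik) hij hkl t u).eq
    exact (S.X_quad hrow hcol hK hspan hquad hij hik hil hjk hjl hkl t u).eq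
  chain i j l hij hjl hil := S.X_chain hrow hcol hK hij hjl hil

omit hspan hquad

theorem gen_eq_top (hgen : Subgroup.closure (Set.range S.a ∪ {S.D.ψ 1, S.D.h}) = ⊤)
    (hs : S.D.s = (S.X (q S.hn 0) (q S.hn 1) 1 * S.X (q S.hn 1) (q S.hn 0) (-1) * S.X (q S.hn 0) (q S.hn 1) 1) *
      (S.X (q S.hn 3) (q S.hn 4) 1 * S.X (q S.hn 4) (q S.hn 3) (-1) * S.X (q S.hn 3) (q S.hn 4) 1) *
      (S.X (q S.hn 0) (q S.hn 3) 1 * S.X (q S.hn 3) (q S.hn 0) (-1) * S.X (q S.hn 0) (q S.hn 3) 1) *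
      (S.X (q S.hn 0) (q S.hn 3) 1 * S.X (q S.hn 3) (q S.hn 0) (-1) * S.X (q S.hn 0) (q S.hn 3) 1)) :
    Subgroup.closure {g : G | ∃ i j, i ≠ j ∧ ∃ t, g = S.X i j t} = ⊤ := by
  set N := Subgroup.closure {g : G | ∃ i j, i ≠ j ∧ ∃ t, g = S.X i j t} with hN
  have hx : ∀ i j, i ≠ j → ∀ t, S.X i j t ∈ N := fun i j hij t => Subgroup.subset_closure ⟨i, j, hij, t, rfl⟩
  have hsN : S.D.s ∈ N := by
    rw [hs]
    exact mul_mem (mul_mem (mul_mem
      (mul_mem (mul_mem (hx _ _ (q_ne S.hn (by decide)) _) (hx _ _ (q_ne S.hn (by decide)) _)) (hx _ _ (q_ne S.hn (by decide)) _))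
      (mul_mem (mul_mem (hx _ _ (q_ne S.hn (by decide)) _) (hx _ _ (q_ne S.hn (by decide)) _)) (hx _ _ (q_ne S.hn (by decide)) _)))
      (mul_mem (mul_mem (hx _ _ (q_ne S.hn (by decide)) _) (hx _ _ (q_ne S.hn (by decide)) _)) (hx _ _ (q_ne S.hn (by decide)) _)))
      (mul_mem (mul_mem (hx _ _ (q_ne S.hn (by decide)) _) (hx _ _ (q_ne S.hn (by decide)) _)) (hx _ _ (q_ne S.hn (by decide)) _))
  have haN : ∀ π, ∀ z ∈ N, S.a π * z * (S.a π)⁻¹ ∈ N := fun π z => conj_mem_of_closure _ (by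
    rintro _ ⟨i, j, hij, t, rfl⟩
    rw [S.X_conj π hij]
    exact hx _ _ ((π : Perm (Fin n)).injective.ne hij) _)
  have hhN : ∀ z ∈ N, S.D.h * z * S.D.h⁻¹ ∈ N := fun z => conj_mem_of_closure _ (by
    rintro _ ⟨i, j, hij, t, rfl⟩
    obtain ⟨χ, hχ⟩ := S.h_wt hrow hcol hK i j hij
    rw [hχ]; exact hx _ _ hij _)
  have haA : ∀ π, S.a π ∈ N := by
    have : (N.comap S.a).Normal := ⟨fun z hz π => by
      show S.a (π * z * π⁻¹) ∈ N
      rw [map_mul, map_mul, map_inv]; exact haN π _ hz⟩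
    have hne : N.comap S.a ≠ ⊥ := fun e => five_inv_ne S.hn <| (Subgroup.eq_bot_iff_forall _).1 e _ (by
      show S.a (five S.hn inv5) ∈ N
      rwa [← S.s_eq])
    have hsimp : IsSimpleGroup (alternatingGroup (Fin n)) :=
      alternatingGroup.isSimpleGroup (by rw [Nat.card_eq_fintype_card, Fintype.card_fin]; exact S.hn)
    have htop := this.eq_bot_or_eq_top.resolve_left hne
    exact fun π => (show π ∈ N.comap S.a by rw [htop]; exact Subgroup.mem_top π)
  have hw : S.D.w ∈ N := by rw [S.w_eq]; exact haA _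
  have hh : S.D.h ∈ N := by
    have h2 : S.D.h⁻¹ * S.D.h⁻¹ ∈ N := by
      have h1 : S.D.s * (S.D.h * S.D.s⁻¹ * S.D.h⁻¹) ∈ N := mul_mem hsN (hhN _ (inv_mem hsN))
      rwa [show S.D.s * (S.D.h * S.D.s⁻¹ * S.D.h⁻¹) = S.D.s * S.D.h * S.D.s⁻¹ * S.D.h⁻¹ by group, S.D.sh] at h1
    have c1 : S.D.h * (S.D.w * S.D.h * S.D.w⁻¹) = S.D.h * S.D.w * S.D.h⁻¹ * (S.D.h * S.D.h) * S.D.w⁻¹ := by group
    have m1 : S.D.h * (S.D.w * S.D.h * S.D.w⁻¹) ∈ N := by
      rw [c1]
      refine mul_mem (mul_mem (hhN _ hw) ?_) (inv_mem hw)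
      simpa using inv_mem h2
    have m2 : S.D.w * (S.D.w * S.D.h * S.D.w⁻¹) * S.D.w⁻¹ ∈ N := by
      have := inv_mem m1
      rwa [inv_eq_of_mul_eq_one_right S.D.h3] at this
    have e : S.D.h = S.D.w⁻¹ * S.D.w⁻¹ * (S.D.w * (S.D.w * S.D.h * S.D.w⁻¹) * S.D.w⁻¹) * (S.D.w * S.D.w) := by group
    rw [e]
    exact mul_mem (mul_mem (mul_mem (inv_mem hw) (inv_mem hw)) m2) (mul_mem hw hw)
  rw [eq_top_iff, ← hgen, Subgroup.closure_le]
  rintro z (⟨π, rfl⟩ | rfl | rfl)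
  · exact haA π
  · rw [← S.X01]; exact hx _ _ (q_ne S.hn (by decide)) 1
  · exact hh

include hspan hquad

/-- The order bound. -/
theorem card_le [Fintype F] (hgen : Subgroup.closure (Set.range S.a ∪ {S.D.ψ 1, S.D.h}) = ⊤)
    (hs : S.D.s = (S.X (q S.hn 0) (q S.hn 1) 1 * S.X (q S.hn 1) (q S.hn 0) (-1) * S.X (q S.hn 0) (q S.hn 1) 1) *
      (S.X (q S.hn 3) (q S.hn 4) 1 * S.X (q S.hn 4) (q S.hn 3) (-1) * S.X (q S.hn 3) (q S.hn 4) 1) *
      (S.X (q S.hn 0) (q S.hn 3) 1 * S.X (q S.hn 3) (q S.hn 0) (-1) * S.X (q S.hn 0) (q S.hn 3) 1) *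
      (S.X (q S.hn 0) (q S.hn 3) 1 * S.X (q S.hn 3) (q S.hn 0) (-1) * S.X (q S.hn 0) (q S.hn 3) 1)) :
    Finite G ∧ Nat.card G ≤ Nat.card (Matrix.SpecialLinearGroup (Fin n) F) := by
  let R := S.rels hrow hcol hK hspan hquad
  obtain ⟨m, hm⟩ : ∃ m, n = m + 1 := ⟨n - 1, by have := S.hn; omega⟩
  have hrel : ∀ i j, i ≠ j → ∀ t u : F, t ≠ 0 →
      (R.x i j t * R.x j i (-t⁻¹) * R.x i j t) * R.x i j u * (R.x i j t * R.x j i (-t⁻¹) * R.x i j t)⁻¹ =
        R.x j i (-(t⁻¹ ^ 2 * u)) := fun i j hij t u ht => by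
    obtain ⟨k, hk⟩ : ∃ k, k ∉ ({i, j} : Finset (Fin n)) := Finset.exists_mem_notMem_of_card_lt_card
      (t := Finset.univ) (by rw [Finset.card_pair hij, Finset.card_univ, Fintype.card_fin]; have := S.hn; omega)
      |>.imp fun _ h => h.2
    simp only [Finset.mem_insert, Finset.mem_singleton, not_or] at hk
    exact R.rel_of_third hij hk.1 hk.2 t u ht
  let T : StN F n G := { R with rel := hrel, gen := S.gen_eq_top hrow hcol hK hgen hs }
  subst hm
  obtain ⟨hf, hle⟩ := StN.card_bound m T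
  exact ⟨hf, hle.trans (le_of_eq (by rw [GL.card_SL_prod]; rfl))⟩

end Setup

end Cfsg.Agent.SLnPresentation
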