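/-
The matrices for the presentation of `SL_n`: even permutations, the block `SL₂`, the torus element.
-/
import Cfsg.Agent.Lib.SLnPresentation.Points
import Cfsg.Agent.Lib.BoundedPres.AltTwo
import Cfsg.Agent.Lib.BoundedPres.SLModel
import Cfsg.Agent.Lib.GL.Basic

set_option autoImplicit false
set_option linter.unusedSectionVars false

namespace Cfsg.Agent.SLnPresentation

open Equiv Matrix Cfsg.Agent.SL2Presentation
open scoped MatrixGroups

variable {F : Type*} [Field F] {n : ℕ}

theorem vmul (A B : SpecialLinearGroup (Fin n) F) : (A * B).1 = A.1 * B.1 := rfl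

theorem vone : (1 : SpecialLinearGroup (Fin n) F).1 = 1 := rfl

/-- Even permutations as permutation matrices. -/
def permN : alternatingGroup (Fin n) →* SpecialLinearGroup (Fin n) F where
  toFun g := ⟨(g : Perm (Fin n))⁻¹.permMatrix F, by
    rw [det_permutation, map_inv, show Perm.sign (g : Perm (Fin n)) = 1 from g.2]; simp⟩
  map_one' := Subtype.ext (by simp)
  map_mul' g h := Subtype.ext (show ((g * h : alternatingGroup (Fin n)) : Perm (Fin n))⁻¹.permMatrix F =
      (g : Perm (Fin n))⁻¹.permMatrix F * (h : Perm (Fin n))⁻¹.permMatrix F by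
    simp [_root_.mul_inv_rev, Matrix.permMatrix_mul])

theorem permN_conj (g : alternatingGroup (Fin n)) (M : SpecialLinearGroup (Fin n) F) :
    ((permN g * M * (permN g)⁻¹ : SpecialLinearGroup (Fin n) F) : Matrix _ _ F) =
      (M : Matrix _ _ F).submatrix ⇑((g : Perm (Fin n))⁻¹) ⇑((g : Perm (Fin n))⁻¹) := by
  rw [← map_inv]
  show ((g : Perm (Fin n))⁻¹).permMatrix F * M.1 *
    ((g⁻¹ : alternatingGroup (Fin n)) : Perm (Fin n))⁻¹.permMatrix F = _
  rw [Subgroup.coe_inv, inv_inv, Equiv.Perm.permMatrix, Equiv.Perm.permMatrix,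
    PEquiv.toMatrix_toPEquiv_mul, PEquiv.mul_toMatrix_toPEquiv, submatrix_submatrix]
  rfl

theorem permN_mulVec (g : alternatingGroup (Fin n)) (y : Fin n) :
    (permN (F := F) g).1 *ᵥ Pi.single y 1 = Pi.single ((g : Perm (Fin n)) y) 1 := by
  rw [mulVec_single_one]
  funext x
  show ((g : Perm (Fin n))⁻¹.permMatrix F) x y = _
  rw [Equiv.Perm.permMatrix, PEquiv.toMatrix_apply, Pi.single_apply]
  simp only [Equiv.toPEquiv_apply, Option.mem_some_iff, Perm.inv_eq_iff_eq]

theorem permN_transvection (g : alternatingGroup (Fin n)) {i j : Fin n} (hij : i ≠ j) (a : F) :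
    permN g * SpecialLinearGroup.transvection hij a * (permN g)⁻¹ =
      SpecialLinearGroup.transvection ((g : Perm (Fin n)).injective.ne hij) a := by
  refine Subtype.ext ?_
  rw [permN_conj, SpecialLinearGroup.transvection_coe, SpecialLinearGroup.transvection_coe, submatrix_add,
    Pi.add_apply, Pi.add_apply, submatrix_one_equiv]
  congr 1
  ext x y
  simp only [submatrix_apply, Matrix.single_apply, Perm.eq_inv_iff_eq]

theorem permN_diagonal (g : alternatingGroup (Fin n)) (M : SpecialLinearGroup (Fin n) F) (d : Fin n → F)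
    (hM : M.1 = diagonal d) :
    (permN g * M * (permN g)⁻¹ : SpecialLinearGroup (Fin n) F).1 = diagonal (d ∘ ⇑((g : Perm (Fin n))⁻¹)) := by
  rw [permN_conj, hM, submatrix_diagonal_equiv]

theorem diagonal_transvection {M : SpecialLinearGroup (Fin n) F} {d : Fin n → F} (hM : M.1 = diagonal d)
    (hd : ∀ x, d x ≠ 0) {i j : Fin n} (hij : i ≠ j) (a : F) :
    M * SpecialLinearGroup.transvection hij a * M⁻¹ = SpecialLinearGroup.transvection hij (d i / d j * a) := by
  rw [mul_inv_eq_iff_eq_mul]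
  refine Subtype.ext ?_
  show M.1 * (SpecialLinearGroup.transvection hij a).1 = (SpecialLinearGroup.transvection hij _).1 * M.1
  rw [hM, SpecialLinearGroup.transvection_coe, SpecialLinearGroup.transvection_coe]
  ext x y
  rw [diagonal_mul, mul_diagonal, Matrix.add_apply, Matrix.add_apply, Matrix.single_apply, Matrix.single_apply]
  have := hd j
  rcases eq_or_ne x y with rfl | hxy
  · have : ¬ (i = x ∧ j = x) := fun h => hij (h.1.trans h.2.symm)
    simp [this]
  · rw [Matrix.one_apply_ne hxy]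
    split_ifs with h
    · obtain ⟨rfl, rfl⟩ := h; field_simp; ring
    · simp

/-- The splitting off of the first two points. -/
def cut (hn : 5 ≤ n) : Fin 2 ⊕ Fin (n - 2) ≃ Fin n := finSumFinEquiv.trans (finCongr (by omega))

theorem cut_inl (hn : 5 ≤ n) (i : Fin 2) : cut hn (Sum.inl i) = q hn (Fin.castLE (by decide : 2 ≤ 5) i) :=
  Fin.ext rfl

/-- The block copy of `SL₂`. -/
def embN (hn : 5 ≤ n) : SL(2, F) →* SpecialLinearGroup (Fin n) F where
  toFun A := ⟨Matrix.reindex (cut hn) (cut hn) (BoundedPres.phiM A).1, by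
    rw [Matrix.reindex_apply, det_submatrix_equiv_self]; exact (BoundedPres.phiM A).2⟩
  map_one' := Subtype.ext (by simp)
  map_mul' A B := Subtype.ext (show Matrix.reindex (cut hn) (cut hn) (BoundedPres.phiM (A * B)).1 =
      Matrix.reindex (cut hn) (cut hn) (BoundedPres.phiM A).1 * Matrix.reindex (cut hn) (cut hn) (BoundedPres.phiM B).1 by
    rw [map_mul]
    show Matrix.reindex _ _ ((BoundedPres.phiM A).1 * (BoundedPres.phiM B).1) = _
    simp [submatrix_mul_equiv])

theorem embN_cut (hn : 5 ≤ n) (A : SL(2, F)) (x y : Fin 2 ⊕ Fin (n - 2)) :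
    (embN hn A).1 (cut hn x) (cut hn y) = fromBlocks A.1 0 0 1 x y := by
  show Matrix.reindex (cut hn) (cut hn) (BoundedPres.phiM A).1 (cut hn x) (cut hn y) = _
  rw [Matrix.reindex_apply, submatrix_apply, Equiv.symm_apply_apply, Equiv.symm_apply_apply]
  rfl

theorem embN_uL (hn : 5 ≤ n) (a : F) :
    embN hn (uL a) = SpecialLinearGroup.transvection (q_ne hn (show (0 : Fin 5) ≠ 1 by decide)) a := by
  refine Subtype.ext (Matrix.ext fun x y => ?_)
  obtain ⟨x, rfl⟩ := (cut hn).surjective x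
  obtain ⟨y, rfl⟩ := (cut hn).surjective y
  rw [embN_cut, SpecialLinearGroup.transvection_coe, show q hn 0 = cut hn (Sum.inl 0) from (cut_inl hn 0).symm,
    show q hn 1 = cut hn (Sum.inl 1) from (cut_inl hn 1).symm]
  simp only [Matrix.add_apply, Matrix.one_apply, Matrix.single_apply, (cut hn).injective.eq_iff]
  rcases x with x | x <;> rcases y with y | y
  · fin_cases x <;> fin_cases y <;> simp [BoundedPres.uL_val]
  · simp
  · simp
  · simp [Matrix.one_apply]

theorem embN_yL (hn : 5 ≤ n) (A : SL(2, F)) (a : F) (hA : A.1 = !![1, 0; a, 1]) :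
    embN hn A = SpecialLinearGroup.transvection (q_ne hn (show (1 : Fin 5) ≠ 0 by decide)) a := by
  refine Subtype.ext (Matrix.ext fun x y => ?_)
  obtain ⟨x, rfl⟩ := (cut hn).surjective x
  obtain ⟨y, rfl⟩ := (cut hn).surjective y
  rw [embN_cut, SpecialLinearGroup.transvection_coe, show q hn 0 = cut hn (Sum.inl 0) from (cut_inl hn 0).symm,
    show q hn 1 = cut hn (Sum.inl 1) from (cut_inl hn 1).symm]
  simp only [Matrix.add_apply, Matrix.one_apply, Matrix.single_apply, (cut hn).injective.eq_iff]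
  rcases x with x | x <;> rcases y with y | y
  · fin_cases x <;> fin_cases y <;> simp [hA]
  · simp
  · simp
  · simp [Matrix.one_apply]

theorem embN_tL (hn : 5 ≤ n) :
    embN hn (tL : SL(2, F)) = SpecialLinearGroup.transvection (q_ne hn (show (0 : Fin 5) ≠ 1 by decide)) 1 *
      SpecialLinearGroup.transvection (q_ne hn (show (1 : Fin 5) ≠ 0 by decide)) (-1) *
      SpecialLinearGroup.transvection (q_ne hn (show (0 : Fin 5) ≠ 1 by decide)) 1 := by
  let Y : SL(2, F) := ⟨!![1, 0; -1, 1], by simp [det_fin_two]⟩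
  have e : (tL : SL(2, F)) = uL 1 * Y * uL 1 := by
    refine Subtype.ext ?_
    show (!![0, 1; -1, 0] : Matrix (Fin 2) (Fin 2) F) = !![1, 1; 0, 1] * !![1, 0; -1, 1] * !![1, 1; 0, 1]
    simp [Matrix.mul_fin_two]
  rw [e, map_mul, map_mul, embN_uL, embN_yL hn Y (-1) rfl]

/-- The entries of the torus element. -/
def dfun (hn : 5 ≤ n) (ω : Fˣ) (x : Fin n) : F :=
  if x = q hn 0 then (ω : F) else if x = q hn 1 then (ω : F)⁻¹ else 1

theorem dfun_ne (hn : 5 ≤ n) (ω : Fˣ) (x : Fin n) : dfun hn ω x ≠ 0 := by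
  unfold dfun; split_ifs <;> simp

theorem dfun_out (hn : 5 ≤ n) (ω : Fˣ) {x : Fin n} (h0 : x ≠ q hn 0) (h1 : x ≠ q hn 1) : dfun hn ω x = 1 := by
  rw [dfun, if_neg h0, if_neg h1]

theorem dfun_q (hn : 5 ≤ n) (ω : Fˣ) :
    dfun hn ω (q hn 0) = (ω : F) ∧ dfun hn ω (q hn 1) = (ω : F)⁻¹ ∧ dfun hn ω (q hn 2) = 1 ∧
      dfun hn ω (q hn 3) = 1 ∧ dfun hn ω (q hn 4) = 1 := by
  refine ⟨if_pos rfl, ?_, ?_, ?_, ?_⟩
  · rw [dfun, if_neg (q_ne hn (by decide)), if_pos rfl]
  all_goals exact dfun_out hn ω (q_ne hn (by decide)) (q_ne hn (by decide))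

theorem embN_dL (hn : 5 ≤ n) (ω : Fˣ) : (embN hn (dL ω)).1 = diagonal (dfun hn ω) := by
  refine Matrix.ext fun x y => ?_
  obtain ⟨x, rfl⟩ := (cut hn).surjective x
  obtain ⟨y, rfl⟩ := (cut hn).surjective y
  rw [embN_cut, Matrix.diagonal_apply, dfun, show q hn 0 = cut hn (Sum.inl 0) from (cut_inl hn 0).symm,
    show q hn 1 = cut hn (Sum.inl 1) from (cut_inl hn 1).symm]
  simp only [(cut hn).injective.eq_iff, dL_coe]
  rcases x with x | x <;> rcases y with y | y
  · fin_cases x <;> fin_cases y <;> simp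
  · simp
  · simp
  · simp [Matrix.one_apply]

/-- Two even permutations generate the stabiliser of the first two points. -/
theorem exists_stab (hn : 5 ≤ n) : ∃ u v : alternatingGroup (Fin n),
    (u : Perm (Fin n)) (q hn 0) = q hn 0 ∧ (u : Perm (Fin n)) (q hn 1) = q hn 1 ∧
    (v : Perm (Fin n)) (q hn 0) = q hn 0 ∧ (v : Perm (Fin n)) (q hn 1) = q hn 1 ∧
    ∀ g : alternatingGroup (Fin n), (g : Perm (Fin n)) (q hn 0) = q hn 0 → (g : Perm (Fin n)) (q hn 1) = q hn 1 →
      g ∈ Subgroup.closure ({u, v} : Set (alternatingGroup (Fin n))) := by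
  obtain ⟨u, v, huv⟩ := BoundedPres.exists_two_gen_alt (n - 2)
  let ι : alternatingGroup (Fin (n - 2)) →* alternatingGroup (Fin n) :=
    (((cut hn).permCongrHom.toMonoidHom).comp ((Perm.sumCongrHom (Fin 2) (Fin (n - 2))).comp
      ((MonoidHom.inr (Perm (Fin 2)) (Perm (Fin (n - 2)))).comp (alternatingGroup _).subtype))).codRestrict _
      fun g => by
        show Perm.sign ((cut hn).permCongr (Perm.sumCongrHom (Fin 2) (Fin (n - 2)) (1, (g : Perm (Fin (n - 2)))))) = 1
        rw [Perm.sign_permCongr, show Perm.sumCongrHom (Fin 2) (Fin (n - 2)) (1, (g : Perm (Fin (n - 2)))) =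
          sumCongr 1 (g : Perm (Fin (n - 2))) from rfl, Perm.sign_sumCongr, map_one, one_mul]
        exact g.2
  have hfix : ∀ g i, (ι g : Perm (Fin n)) (q hn (Fin.castLE (by decide : 2 ≤ 5) i)) =
      q hn (Fin.castLE (by decide : 2 ≤ 5) i) := fun g i => by
    show (cut hn).permCongr (Perm.sumCongrHom (Fin 2) (Fin (n - 2)) (1, (g : Perm (Fin (n - 2))))) _ = _
    rw [← cut_inl, Equiv.permCongr_apply, Equiv.symm_apply_apply]
    rfl
  refine ⟨ι u, ι v, hfix u 0, hfix u 1, hfix v 0, hfix v 1, fun g h0 h1 => ?_⟩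
  set g' : Perm (Fin 2 ⊕ Fin (n - 2)) := (cut hn).symm.permCongr (g : Perm (Fin n))
  have hg' : ∀ i, g' (Sum.inl i) = Sum.inl i := fun i => by
    show (cut hn).symm ((g : Perm (Fin n)) ((cut hn) (Sum.inl i))) = _
    rw [cut_inl, show (g : Perm (Fin n)) (q hn (Fin.castLE (by decide : 2 ≤ 5) i)) = q hn (Fin.castLE (by decide : 2 ≤ 5) i) by
      fin_cases i <;> assumption, ← cut_inl, Equiv.symm_apply_apply]
  obtain ⟨⟨τ, π⟩, hτπ⟩ := Perm.mem_sumCongrHom_range_of_perm_mapsTo_inl (σ := g') (by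
    rintro _ ⟨i, rfl⟩; exact ⟨i, (hg' i).symm⟩)
  obtain rfl : τ = 1 := by
    refine Equiv.ext fun i => ?_
    have := hg' i
    rw [← hτπ] at this
    exact Sum.inl_injective this
  have hgπ : (cut hn).permCongr (Perm.sumCongrHom (Fin 2) (Fin (n - 2)) (1, π)) = (g : Perm (Fin n)) := by
    rw [hτπ]; exact Equiv.ext fun x => by simp [g', Equiv.permCongr_apply]
  have hπ : Perm.sign π = 1 := by
    have := g.2
    rw [Perm.mem_alternatingGroup, ← hgπ, Perm.sign_permCongr,
      show Perm.sumCongrHom (Fin 2) (Fin (n - 2)) (1, π) = sumCongr 1 π from rfl, Perm.sign_sumCongr, map_one,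
      one_mul] at this
    exact this
  have h : ι ⟨π, hπ⟩ ∈ (Subgroup.closure {u, v}).map ι := ⟨_, huv ▸ Subgroup.mem_top _, rfl⟩
  rw [MonoidHom.map_closure, Set.image_insert_eq, Set.image_singleton] at h
  exact (show ι ⟨π, hπ⟩ = g from Subtype.ext hgπ) ▸ h

end Cfsg.Agent.SLnPresentation
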