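/-
`SL_n`, `n ≥ 5`: a presentation of the alternating group plus two generators and sixteen relations.
-/
import Cfsg.Agent.Lib.SLnPresentation.Bound
import Cfsg.Agent.Lib.SLnPresentation.Model
import Cfsg.Agent.Lib.SL3Presentation.Main

set_option autoImplicit false
set_option linter.unusedSectionVars false

namespace Cfsg.Agent.SLnPresentation

open Equiv Matrix Cfsg.Agent.SL2Presentation Cfsg.Agent.SL3Presentation
open scoped MatrixGroups Classical IsMulCommutative

variable {F : Type*} [Field F] [Fintype F] {n : ℕ}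

local notation "T" => Matrix.SpecialLinearGroup.transvection

/-- Padded presentations. -/
theorem exists_pad {k r d : ℕ} {H : Type*} [Group H] {rels : Finset (FreeGroup (Fin k))} (hr : rels.card ≤ r)
    (e : PresentedGroup (↑rels : Set (FreeGroup (Fin k))) ≃* H) :
    ∃ rels' : Finset (FreeGroup (Fin (k + d))), rels'.card ≤ r + d ∧
      Nonempty (PresentedGroup (↑rels' : Set (FreeGroup (Fin (k + d)))) ≃* H) := by
  let ι : FreeGroup (Fin k) →* FreeGroup (Fin (k + d)) := FreeGroup.map (Fin.castAdd d)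
  set R : Finset (FreeGroup (Fin (k + d))) :=
    rels.image ι ∪ Finset.univ.image (fun i : Fin d => FreeGroup.of (Fin.natAdd k i)) with hR
  refine ⟨R, ?_, ?_⟩
  · refine (Finset.card_union_le _ _).trans (add_le_add (Finset.card_image_le.trans hr) ?_)
    exact Finset.card_image_le.trans (by simp)
  let f : Fin (k + d) → PresentedGroup (↑rels : Set (FreeGroup (Fin k))) :=
    Fin.append (fun i => PresentedGroup.of i) (fun _ => 1)
  have hcomp : (FreeGroup.lift f).comp ι = PresentedGroup.mk _ :=
    FreeGroup.ext_hom _ _ fun i => by simp [ι, f, PresentedGroup.of]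
  have hf : ∀ x ∈ (↑R : Set (FreeGroup (Fin (k + d)))), FreeGroup.lift f x = 1 := by
    intro x hx
    simp only [hR, Finset.coe_union, Finset.coe_image, Set.mem_union, Set.mem_image] at hx
    rcases hx with ⟨y, hy, rfl⟩ | ⟨i, -, rfl⟩
    · rw [← MonoidHom.comp_apply, hcomp]; exact PresentedGroup.one_of_mem hy
    · simp [f]
  let g : Fin k → PresentedGroup (↑R : Set (FreeGroup (Fin (k + d)))) := fun i => PresentedGroup.of (Fin.castAdd d i)
  have hcomp' : FreeGroup.lift g = (PresentedGroup.mk _).comp ι :=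
    FreeGroup.ext_hom _ _ fun i => by simp [ι, g, PresentedGroup.of]
  have hg : ∀ x ∈ (↑rels : Set (FreeGroup (Fin k))), FreeGroup.lift g x = 1 := fun x hx => by
    rw [hcomp', MonoidHom.comp_apply]
    exact PresentedGroup.one_of_mem (Finset.mem_union_left _ (Finset.mem_image_of_mem _ hx))
  refine ⟨MulEquiv.trans (MonoidHom.toMulEquiv (PresentedGroup.toGroup hf) (PresentedGroup.toGroup hg) ?_ ?_) e⟩
  · refine PresentedGroup.ext fun i => ?_
    rw [MonoidHom.comp_apply, PresentedGroup.toGroup.of, MonoidHom.id_apply]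
    refine Fin.addCases (fun i => ?_) (fun i => ?_) i
    · simp [f, g]
    · simp only [f, Fin.append_right, map_one]
      exact (PresentedGroup.one_of_mem (Finset.mem_union_right _ (Finset.mem_image_of_mem _ (Finset.mem_univ i)))).symm
  · refine PresentedGroup.ext fun i => ?_
    rw [MonoidHom.comp_apply, PresentedGroup.toGroup.of, MonoidHom.id_apply]
    simp [f, g]

/-- One more relation for the quotient by the centre. -/
theorem exists_quot {k r : ℕ} {H : Type*} [Group H] {rels : Finset (FreeGroup (Fin k))} (hr : rels.card ≤ r)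
    (e : PresentedGroup (↑rels : Set (FreeGroup (Fin k))) ≃* H) (N : Subgroup H) [N.Normal] (z : H)
    (hN : N = Subgroup.normalClosure {z}) :
    ∃ rels' : Finset (FreeGroup (Fin k)), rels'.card ≤ r + 1 ∧
      Nonempty (PresentedGroup (↑rels' : Set (FreeGroup (Fin k))) ≃* H ⧸ N) := by
  obtain ⟨wz, hwz⟩ := (e.surjective.comp (PresentedGroup.mk_surjective _)) z
  simp only [Function.comp_apply] at hwz
  set R := insert wz rels with hR
  refine ⟨R, (Finset.card_insert_le _ _).trans (by omega), ?_⟩
  let π : FreeGroup (Fin k) →* H ⧸ N :=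
    (QuotientGroup.mk' N).comp (e.toMonoidHom.comp (PresentedGroup.mk _))
  have hπ : FreeGroup.lift (fun i => π (.of i)) = π := FreeGroup.ext_hom _ _ fun i => by simp
  have hf : ∀ x ∈ (↑R : Set (FreeGroup (Fin k))), FreeGroup.lift (fun i => π (.of i)) x = 1 := fun x hx => by
    rw [hπ]
    rcases Finset.mem_insert.1 hx with rfl | hx
    · show QuotientGroup.mk' N (e (PresentedGroup.mk _ x)) = 1
      rw [hwz]
      exact (QuotientGroup.eq_one_iff z).2 (hN ▸ Subgroup.subset_normalClosure rfl)
    · show QuotientGroup.mk' N (e (PresentedGroup.mk _ x)) = 1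
      rw [PresentedGroup.one_of_mem hx, map_one, map_one]
  have hsub : ∀ x ∈ (↑rels : Set (FreeGroup (Fin k))),
      FreeGroup.lift (fun i => (PresentedGroup.of i : PresentedGroup (↑R : Set (FreeGroup (Fin k))))) x = 1 := fun x hx => by
    rw [show FreeGroup.lift (fun i => (PresentedGroup.of i : PresentedGroup (↑R : Set (FreeGroup (Fin k))))) =
      PresentedGroup.mk _ from FreeGroup.ext_hom _ _ fun i => by simp [PresentedGroup.of]]
    exact PresentedGroup.one_of_mem (Finset.mem_insert_of_mem hx)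
  let σ : H →* PresentedGroup (↑R : Set (FreeGroup (Fin k))) := (PresentedGroup.toGroup hsub).comp e.symm.toMonoidHom
  have hσe : ∀ x, σ (e (PresentedGroup.mk _ x)) = PresentedGroup.mk _ x := fun x => by
    have : (PresentedGroup.toGroup hsub).comp (PresentedGroup.mk _) = PresentedGroup.mk _ :=
      FreeGroup.ext_hom _ _ fun i => PresentedGroup.toGroup.of hsub
    show PresentedGroup.toGroup hsub (e.symm (e _)) = _
    rw [e.symm_apply_apply]
    exact DFunLike.congr_fun this x
  have hle : N ≤ σ.ker := by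
    rw [hN]
    refine Subgroup.normalClosure_le_normal (Set.singleton_subset_iff.2 ?_)
    show σ z = 1
    rw [← hwz, hσe]
    exact PresentedGroup.one_of_mem (Finset.mem_insert_self _ _)
  refine ⟨MonoidHom.toMulEquiv (PresentedGroup.toGroup hf) (QuotientGroup.lift N σ hle) ?_ ?_⟩
  · refine PresentedGroup.ext fun i => ?_
    rw [MonoidHom.comp_apply, PresentedGroup.toGroup.of, MonoidHom.id_apply]
    exact hσe (.of i)
  · refine QuotientGroup.monoidHom_ext _ (MonoidHom.ext fun y => ?_)
    obtain ⟨x, rfl⟩ := (e.surjective.comp (PresentedGroup.mk_surjective _)) y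
    show PresentedGroup.toGroup hf (σ (e (PresentedGroup.mk _ x))) = π x
    rw [hσe]
    exact DFunLike.congr_fun hπ x

/-- The monomial element of a pair on a basis vector. -/
theorem t_mulVec {i j : Fin n} (hij : i ≠ j) (hji : j ≠ i) (x : Fin n) :
    (T hij (1 : F) * T hji (-1) * T hij 1).1 *ᵥ Pi.single x 1 =
      if x = i then -Pi.single j 1 else if x = j then Pi.single i 1 else Pi.single x 1 := by
  have h : ∀ {i j : Fin n} (h : i ≠ j) (a : F) (v : Fin n → F), (T h a).1 *ᵥ v = v + Pi.single i (a * v j) := by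
    intro i j h a v
    rw [SpecialLinearGroup.transvection_coe, Matrix.add_mulVec, Matrix.one_mulVec, Matrix.single_mulVec,
      Pi.single]
  rw [vmul, vmul, ← Matrix.mulVec_mulVec, ← Matrix.mulVec_mulVec, h, h, h]
  funext y
  rcases eq_or_ne x i with rfl | hxi
  · simp only [if_true, Pi.add_apply, Pi.neg_apply, Pi.single_apply, hji, hij, if_false]
    split_ifs <;> simp_all
  rcases eq_or_ne x j with rfl | hxj
  · simp only [hji, if_false, if_true, Pi.add_apply, Pi.single_apply, hij]
    split_ifs <;> simp_all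
  simp only [hxi, hxj, if_false, Pi.add_apply, Pi.single_apply, Ne.symm hxi, Ne.symm hxj]
  simp

/-- The presentation. -/
theorem exists_presentation (hn : 5 ≤ n) {k r : ℕ} {RA : Finset (FreeGroup (Fin k))} (hRA : RA.card ≤ r)
    (eA : PresentedGroup (↑RA : Set (FreeGroup (Fin k))) ≃* alternatingGroup (Fin n)) :
    ∃ rels : Finset (FreeGroup (Fin (2 + k))), rels.card ≤ r + 16 ∧
      Nonempty (PresentedGroup (↑rels : Set (FreeGroup (Fin (2 + k)))) ≃* Matrix.SpecialLinearGroup (Fin n) F) := by
  obtain ⟨p, hc⟩ := CharP.exists F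
  haveI := hc
  haveI : Fact p.Prime := ⟨CharP.char_is_prime F p⟩
  letI := ZMod.algebra F p
  obtain ⟨ω, hω'⟩ := IsCyclic.exists_generator (α := Fˣ)
  have hω : orderOf ω = Fintype.card F - 1 := by
    rw [orderOf_eq_card_of_forall_mem_zpowers hω', Nat.card_eq_fintype_card, Fintype.card_units]
  obtain ⟨R0, X, hpk, hX, hcard, hclose⟩ := exists_close ω hω p
  have hsurj := aeval_sq_surjective (p := p) ω hω
  have hω0 : (ω : F) ≠ 0 := ω.ne_zero
  obtain ⟨g1, g2, g10, g11, g20, g21, hstab⟩ := exists_stab hn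
  obtain ⟨a34, ha3, ha4⟩ := exists_pair hn (q hn 3) (q hn 4) (q_ne hn (by decide))
  obtain ⟨a03, hb0, hb3⟩ := exists_pair hn (q hn 0) (q hn 3) (q_ne hn (by decide))
  -- the words
  have hword : ∀ π : alternatingGroup (Fin n), ∃ v : FreeGroup (Fin k), eA (PresentedGroup.mk _ v) = π :=
    fun π => (eA.surjective.comp (PresentedGroup.mk_surjective _)) π
  choose word hword using hword
  let WA : alternatingGroup (Fin n) → FreeGroup (Fin (2 + k)) := fun π => FreeGroup.map (Fin.natAdd 2) (word π)
  let U : FreeGroup (Fin (2 + k)) := .of (Fin.castAdd k 0)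
  let H : FreeGroup (Fin (2 + k)) := .of (Fin.castAdd k 1)
  let W := WA (five hn cyc5)
  let S := WA (five hn inv5)
  let inc4 : FG4 →* FreeGroup (Fin (2 + k)) := FreeGroup.lift ![U, H, W, S]
  let tN : FreeGroup (Fin (2 + k)) := U * (S * U⁻¹ * S⁻¹) * U
  let E := WA (five hn exch5)
  let base : Finset (FreeGroup (Fin (2 + k))) :=
    {H * (W * H * W⁻¹) * (W * H * W⁻¹ * H)⁻¹,
     S * H * S⁻¹ * H,
     H * (W * H * W⁻¹) * (W * (W * H * W⁻¹) * W⁻¹),
     W * H * W⁻¹ * U * (W * H * W⁻¹)⁻¹ * (inc4 (pw ω p (ω : F)⁻¹))⁻¹,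
     WA g1 * U * (WA g1)⁻¹ * U⁻¹, WA g1 * H * (WA g1)⁻¹ * H⁻¹,
     WA g2 * U * (WA g2)⁻¹ * U⁻¹, WA g2 * H * (WA g2)⁻¹ * H⁻¹,
     U * (E * U * E⁻¹) * (E * U * E⁻¹ * U)⁻¹,
     S * (tN * (WA a34 * tN * (WA a34)⁻¹) * (WA a03 * tN * (WA a03)⁻¹) * (WA a03 * tN * (WA a03)⁻¹))⁻¹}
  set rels := RA.image (FreeGroup.map (Fin.natAdd 2)) ∪ base ∪ (R0.image (inc4.comp inc)) ∪ X.image inc4 with hrels
  refine ⟨rels, ?_, ?_⟩
  · have hb : base.card ≤ 10 := by
      iterate 9 refine (Finset.card_insert_le _ _).trans (Nat.succ_le_succ ?_)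
      rw [Finset.card_singleton]
    have h1 := Finset.card_union_le (RA.image (FreeGroup.map (Fin.natAdd 2)) ∪ base ∪ (R0.image (inc4.comp inc))) (X.image inc4)
    have h2 := Finset.card_union_le (RA.image (FreeGroup.map (Fin.natAdd 2)) ∪ base) (R0.image (inc4.comp inc))
    have h3 := Finset.card_union_le (RA.image (FreeGroup.map (Fin.natAdd 2))) base
    have h4 : (RA.image (FreeGroup.map (Fin.natAdd 2))).card ≤ r := Finset.card_image_le.trans hRA
    have h5 := Finset.card_image_le (s := R0) (f := inc4.comp inc)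
    have h6 := Finset.card_image_le (s := X) (f := inc4)
    rw [hrels]
    omega
  -- the model
  let f0 : Fin (2 + k) → SpecialLinearGroup (Fin n) F :=
    Fin.append ![embN hn (uL 1), embN hn (dL ω)] (fun i => permN (eA (PresentedGroup.of i)))
  let M := FreeGroup.lift f0
  have hMA : ∀ v, M (FreeGroup.map (Fin.natAdd 2) v) = permN (eA (PresentedGroup.mk _ v)) := fun v => by
    have : M.comp (FreeGroup.map (Fin.natAdd 2)) = (permN.comp eA.toMonoidHom).comp (PresentedGroup.mk _) :=
      FreeGroup.ext_hom _ _ fun i => by simp [M, f0, PresentedGroup.of]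
    exact DFunLike.congr_fun this v
  have hMW : ∀ π, M (WA π) = permN π := fun π => by rw [hMA, hword]
  have hU : M U = embN hn (uL 1) := by simp [M, U, f0]
  have hH : M H = embN hn (dL ω) := by simp [M, H, f0]
  have h01 : q hn 0 ≠ q hn 1 := q_ne hn (by decide)
  have h10 : q hn 1 ≠ q hn 0 := q_ne hn (by decide)
  have h12 : q hn 1 ≠ q hn 2 := q_ne hn (by decide)
  have h02 : q hn 0 ≠ q hn 2 := q_ne hn (by decide)
  have hTc : ∀ {i j i' j' : Fin n} (h : i ≠ j) (h' : i' ≠ j') (a : F), i = i' → j = j' → T h a = T h' a := by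
    rintro i j _ _ h h' a rfl rfl; rfl
  have htr : ∀ (π : alternatingGroup (Fin n)) {i j i' j' : Fin n} (h : i ≠ j) (h' : i' ≠ j'),
      (π : Perm (Fin n)) i = i' → (π : Perm (Fin n)) j = j' → ∀ a : F, permN π * T h a * (permN π)⁻¹ = T h' a := by
    intro π i j i' j' h h' e e' a
    rw [permN_transvection]
    exact hTc _ _ a e e'
  have hS10 : ∀ a : F, permN (five hn inv5) * T h01 a * (permN (five hn inv5))⁻¹ = T h10 a :=
    htr _ h01 h10 (five_q hn inv5 0) (five_q hn inv5 1)
  have htN : M tN = embN hn tL := by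
    simp only [tN, map_mul, map_inv, hU, S, hMW, embN_uL, embN_tL]
    congr 2
    rw [SpecialLinearGroup.transvection_inv, hS10]
  have hM4 : ∀ v : FG, M (inc4 (inc v)) = embN hn (model ω v) := by
    have : (M.comp inc4).comp inc = (embN hn).comp (model ω) := by
      refine FreeGroup.ext_hom _ _ fun i => ?_
      fin_cases i
      · simp [inc, inc4, model, hU]
      · simp [inc, inc4, model, hH]
      · simp [inc, inc4, model]
        simpa [tN, mul_assoc] using htN
    exact fun v => DFunLike.congr_fun this v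
  have hMp : ∀ a, M (inc4 (pw ω p a)) = T h01 a := fun a => by
    have h := hsurj a
    rw [pw, dif_pos h, hM4, map_polyWord, model_H, model_U, polyWord_uL, pow_one, h.choose_spec, embN_uL]
  have hMy : ∀ a, M (inc4 (yw ω p a)) = T h12 a := fun a => by
    rw [yw, map_mul, map_mul, map_mul, map_mul, map_inv, map_inv, hMp,
      show M (inc4 (.of 2)) = permN (five hn cyc5) by simp [inc4, W, hMW]]
    exact htr _ h01 h12 (five_q hn cyc5 0) (five_q hn cyc5 1) a
  have hMz : ∀ a, M (inc4 (zw ω p a)) = T h02 a := fun a => by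
    simp only [zw, map_mul, map_inv, hMp]
    rw [show M (inc4 (.of 2)) = permN (five hn cyc5) by simp [inc4, W, hMW],
      show M (inc4 (.of 3)) = permN (five hn inv5) by simp [inc4, S, hMW], hS10,
      htr _ h10 (q_ne hn (show (2 : Fin 5) ≠ 1 by decide)) (five_q hn cyc5 1) (five_q hn cyc5 0) a]
    exact htr _ _ h02 (five_q hn cyc5 2) (five_q hn cyc5 1) a
  have hd := embN_dL hn ω
  obtain ⟨d0, d1, d2, d3, d4⟩ := dfun_q hn ω
  have hdW := permN_diagonal (five hn cyc5) _ _ hd
  set dW : Fin n → F := dfun hn ω ∘ ⇑((five hn cyc5 : Perm (Fin n))⁻¹) with hdWdef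
  have hcyc : ∀ i, (five hn cyc5 : Perm (Fin n))⁻¹ (q hn ((cyc5 : Perm (Fin 5)) i)) = q hn i := fun i => by
    rw [Perm.inv_eq_iff_eq, five_q]
  have hrels1 : ∀ x ∈ rels, M x = 1 := by
    intro x hx
    simp only [hrels, Finset.mem_union, Finset.mem_image] at hx
    rcases hx with ((⟨y, hy, rfl⟩ | hx) | ⟨y, hy, rfl⟩) | ⟨y, hy, rfl⟩
    · rw [hMA, PresentedGroup.one_of_mem hy, map_one, map_one]
    · simp only [base, Finset.mem_insert, Finset.mem_singleton] at hx
      rcases hx with rfl | rfl | rfl | rfl | rfl | rfl | rfl | rfl | rfl | rfl <;>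
        simp only [map_mul, map_inv, hMW, hU, hH, W, S, E, htN]
      · rw [mul_inv_eq_one]
        refine Subtype.ext ?_
        rw [vmul, hd, hdW, vmul, hd, hdW, diagonal_mul_diagonal,
          diagonal_mul_diagonal]
        exact congrArg diagonal (funext fun i => mul_comm _ _)
      · refine Subtype.ext ?_
        rw [vmul, permN_diagonal _ _ _ hd, hd, diagonal_mul_diagonal,
          vone, ← diagonal_one]
        refine congrArg diagonal (funext fun x => ?_)
        obtain ⟨y, rfl⟩ := (five hn inv5 : Perm (Fin n)).surjective x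
        simp only [Function.comp_apply, Perm.inv_def, Equiv.symm_apply_apply]
        rcases eq_or_ne y (q hn 0) with rfl | y0
        · rw [five_q, show (inv5 : Perm (Fin 5)) 0 = 1 from rfl, d0, d1, mul_inv_cancel₀ hω0]
        rcases eq_or_ne y (q hn 1) with rfl | y1
        · rw [five_q, show (inv5 : Perm (Fin 5)) 1 = 0 from rfl, d0, d1, inv_mul_cancel₀ hω0]
        rw [dfun_out hn ω y0 y1, dfun_out hn ω, one_mul]
        · intro e
          refine y1 ((five hn inv5 : Perm (Fin n)).injective (e.trans ?_))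
          rw [five_q]; rfl
        · intro e
          refine y0 ((five hn inv5 : Perm (Fin n)).injective (e.trans ?_))
          rw [five_q]; rfl
      · refine Subtype.ext ?_
        rw [vmul, vmul, hd, hdW, permN_diagonal _ _ _ hdW,
          diagonal_mul_diagonal, diagonal_mul_diagonal, vone, ← diagonal_one]
        refine congrArg diagonal (funext fun x => ?_)
        simp only [hdWdef, Function.comp_apply]
        have c0 : (five hn cyc5 : Perm (Fin n))⁻¹ (q hn 0) = q hn 2 := hcyc 2
        have c1 : (five hn cyc5 : Perm (Fin n))⁻¹ (q hn 1) = q hn 0 := hcyc 0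
        have c2 : (five hn cyc5 : Perm (Fin n))⁻¹ (q hn 2) = q hn 1 := hcyc 1
        rcases eq_or_ne x (q hn 0) with rfl | x0
        · simp only [c0, c2, d0, d1, d2]; field_simp
        rcases eq_or_ne x (q hn 1) with rfl | x1
        · simp only [c0, c1, d0, d1, d2]; field_simp
        rcases eq_or_ne x (q hn 2) with rfl | x2
        · simp only [c1, c2, d0, d1, d2]; field_simp
        set P := (five hn cyc5 : Perm (Fin n))⁻¹
        rw [dfun_out hn ω x0 x1, dfun_out hn ω (x := P x) (fun e => x1 (P.injective (e.trans c1.symm)))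
          (fun e => x2 (P.injective (e.trans c2.symm))),
          dfun_out hn ω (x := P (P x)) (fun e => x2 ?_) (fun e => x0 ?_), one_mul, one_mul]
        · exact P.injective ((P.injective (e.trans c1.symm)).trans c2.symm)
        · exact P.injective ((P.injective (e.trans c2.symm)).trans c0.symm)
      · rw [mul_inv_eq_one, hMp, embN_uL, diagonal_transvection hdW (fun x => dfun_ne hn ω _)]
        congr 1
        simp only [hdWdef, Function.comp_apply]
        rw [show (five hn cyc5 : Perm (Fin n))⁻¹ (q hn 0) = q hn 2 from hcyc 2,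
          show (five hn cyc5 : Perm (Fin n))⁻¹ (q hn 1) = q hn 0 from hcyc 0, d0, d2, one_div, mul_one]
      · rw [mul_inv_eq_one, embN_uL]
        exact htr _ h01 h01 g10 g11 1
      · rw [mul_inv_eq_one]
        refine Subtype.ext ?_
        rw [permN_diagonal _ _ _ hd, hd]
        refine congrArg diagonal (funext fun x => ?_)
        obtain ⟨y, rfl⟩ := (g1 : Perm (Fin n)).surjective x
        simp only [Function.comp_apply, Perm.inv_def, Equiv.symm_apply_apply]
        simp only [dfun]
        conv_rhs => rw [← g10, ← g11]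
        simp only [(g1 : Perm (Fin n)).injective.eq_iff]
      · rw [mul_inv_eq_one, embN_uL]
        exact htr _ h01 h01 g20 g21 1
      · rw [mul_inv_eq_one]
        refine Subtype.ext ?_
        rw [permN_diagonal _ _ _ hd, hd]
        refine congrArg diagonal (funext fun x => ?_)
        obtain ⟨y, rfl⟩ := (g2 : Perm (Fin n)).surjective x
        simp only [Function.comp_apply, Perm.inv_def, Equiv.symm_apply_apply]
        simp only [dfun]
        conv_rhs => rw [← g20, ← g21]
        simp only [(g2 : Perm (Fin n)).injective.eq_iff]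
      · rw [mul_inv_eq_one, embN_uL, htr _ h01 (q_ne hn (show (2 : Fin 5) ≠ 3 by decide)) (five_q hn exch5 0) (five_q hn exch5 1)]
        refine Subtype.ext ?_
        simp only [vmul, SpecialLinearGroup.transvection_coe, mul_add, add_mul, one_mul,
          mul_one, single_mul_single_of_ne _ _ _ _ (q_ne hn (show (1 : Fin 5) ≠ 2 by decide)),
          single_mul_single_of_ne _ _ _ _ (q_ne hn (show (3 : Fin 5) ≠ 0 by decide))]
        abel
      · rw [mul_inv_eq_one, embN_tL]
        have h34 : q hn 3 ≠ q hn 4 := q_ne hn (by decide)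
        have h03 : q hn 0 ≠ q hn 3 := q_ne hn (by decide)
        have hcj : ∀ (π : alternatingGroup (Fin n)) {i j : Fin n} (h : i ≠ j) (h' : j ≠ i),
            (π : Perm (Fin n)) (q hn 0) = i → (π : Perm (Fin n)) (q hn 1) = j →
            permN π * (T h01 (1 : F) * T h10 (-1) * T h01 1) * (permN π)⁻¹ = T h 1 * T h' (-1) * T h 1 := by
          intro π i j h h' e e'
          rw [← htr π h01 h e e', ← htr π h10 h' e' e]
          group
        rw [hcj a34 h34 h34.symm ha3 ha4, hcj a03 h03 h03.symm hb0 hb3]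
        generalize hA : T h01 (1 : F) * T h10 (-1) * T h01 1 = A
        generalize hB : T h34 (1 : F) * T h34.symm (-1) * T h34 1 = B
        generalize hC : T h03 (1 : F) * T h03.symm (-1) * T h03 1 = C
        refine Subtype.ext (Matrix.ext fun i x => ?_)
        suffices key : (permN (F := F) (five hn inv5)).1 *ᵥ Pi.single x 1 = (A * B * C * C).1 *ᵥ Pi.single x 1 from by
          rw [mulVec_single_one, mulVec_single_one] at key
          exact congrFun key i
        refine (permN_mulVec _ _).trans ?_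
        simp only [vmul, ← Matrix.mulVec_mulVec]
        have vA : ∀ x, A.1 *ᵥ Pi.single x 1 = _ := fun x => hA ▸ t_mulVec h01 h10 x
        have vB : ∀ x, B.1 *ᵥ Pi.single x 1 = _ := fun x => hB ▸ t_mulVec h34 h34.symm x
        have vC : ∀ x, C.1 *ᵥ Pi.single x 1 = _ := fun x => hC ▸ t_mulVec h03 h03.symm x
        have e : ∀ i j : Fin 5, q hn i = q hn j ↔ i = j := fun i j => (q hn).injective.eq_iff
        rcases eq_or_ne x (q hn 0) with rfl | x0
        · rw [five_q, show (inv5 : Perm (Fin 5)) 0 = 1 from rfl]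
          simp [vC, vB, vA, mulVec_neg, e]
        rcases eq_or_ne x (q hn 1) with rfl | x1
        · rw [five_q, show (inv5 : Perm (Fin 5)) 1 = 0 from rfl]
          simp [vC, vB, vA, mulVec_neg, e]
        rcases eq_or_ne x (q hn 3) with rfl | x3
        · rw [five_q, show (inv5 : Perm (Fin 5)) 3 = 4 from rfl]
          simp [vC, vB, vA, mulVec_neg, e]
        rcases eq_or_ne x (q hn 4) with rfl | x4
        · rw [five_q, show (inv5 : Perm (Fin 5)) 4 = 3 from rfl]
          simp [vC, vB, vA, mulVec_neg, e]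
        rw [show (five hn inv5 : Perm (Fin n)) x = x by
          show ((inv5 : Perm (Fin 5))).viaEmbedding (q hn) x = x
          by_cases hr' : x ∈ Set.range (q hn)
          · obtain ⟨i, rfl⟩ := hr'
            rw [Perm.viaEmbedding_apply]
            congr 1
            fin_cases i <;> first | rfl | exact absurd rfl x0 | exact absurd rfl x1 | exact absurd rfl x3 | exact absurd rfl x4
          · exact Perm.viaEmbedding_apply_of_notMem _ _ _ hr']
        simp [vC, vB, vA, x0, x1, x3, x4]
    · rw [MonoidHom.comp_apply, hM4, hpk.1 y hy, map_one]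
    · rcases hX y hy with ⟨b, rfl⟩ | rfl | rfl <;>
        simp only [kw, rw1, cw1, map_mul, map_inv, hMp, hMy, hMz, mul_inv_eq_one] <;>
        refine Subtype.ext ?_ <;>
        simp only [vmul, SpecialLinearGroup.transvection_coe, mul_add, add_mul, one_mul,
          mul_one, single_mul_single_same, single_mul_single_of_ne _ _ _ _ h10,
          single_mul_single_of_ne _ _ _ _ h02.symm, single_mul_single_of_ne _ _ _ _ h12.symm,
          Matrix.zero_mul, add_zero, zero_add] <;> abel
  -- the abstract group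
  set G := PresentedGroup (↑rels : Set (FreeGroup (Fin (2 + k))))
  set φ : FreeGroup (Fin (2 + k)) →* G := PresentedGroup.mk _ with hφd
  have hφ : ∀ x ∈ rels, φ x = 1 := fun x hx => PresentedGroup.one_of_mem hx
  let a : alternatingGroup (Fin n) →* G :=
    (PresentedGroup.toGroup (rels := (↑RA : Set (FreeGroup (Fin k)))) (f := fun i => φ (.of (Fin.natAdd 2 i))) fun x hx => by
      rw [show FreeGroup.lift (fun i => φ (.of (Fin.natAdd 2 i))) = φ.comp (FreeGroup.map (Fin.natAdd 2)) from
        FreeGroup.ext_hom _ _ fun i => by simp]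
      exact hφ _ (Finset.mem_union_left _ (Finset.mem_union_left _ (Finset.mem_union_left _
        (Finset.mem_image_of_mem _ hx))))).comp eA.symm.toMonoidHom
  have haW : ∀ π, φ (WA π) = a π := fun π => by
    have hl : (a.comp eA.toMonoidHom).comp (PresentedGroup.mk _) = φ.comp (FreeGroup.map (Fin.natAdd 2)) :=
      FreeGroup.ext_hom _ _ fun i => by
        simp only [MonoidHom.comp_apply, FreeGroup.map.of, a, MulEquiv.coe_toMonoidHom, MulEquiv.symm_apply_apply]
        exact PresentedGroup.toGroup.of _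
    exact (DFunLike.congr_fun hl (word π)).symm.trans (congrArg a (hword π))
  obtain ⟨ψ, hadd, hone, hact, hpoly⟩ := hpk.2 ((φ.comp inc4).comp inc) (fun y hy =>
    hφ _ (Finset.mem_union_left _ (Finset.mem_union_right _ (Finset.mem_image_of_mem (inc4.comp inc) hy))))
  have hincU : inc4 (inc gU) = U := by simp [inc, inc4]
  have hincH : inc4 (inc gH) = H := by simp [inc, inc4]
  simp only [MonoidHom.comp_apply, hincU, hincH] at hone hact hpoly
  have hpw : ∀ a, φ (inc4 (pw ω p a)) = ψ a := fun a => by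
    have h := hsurj a
    rw [pw, dif_pos h, map_polyWord, map_polyWord, map_polyWord, hincU, hincH, ← hpoly, h.choose_spec]
  have hb : ∀ x ∈ base, φ x = 1 :=
    fun x hx => hφ x (Finset.mem_union_left _ (Finset.mem_union_left _ (Finset.mem_union_right _ hx)))
  simp only [base, Finset.forall_mem_insert, Finset.mem_singleton, forall_eq, map_mul, map_inv,
    mul_inv_eq_one, haW, hpw, W, S, E, tN] at hb
  obtain ⟨hh, sh, h3, hu1, f1u, f1h, f2u, f2h, hq', hs⟩ := hb
  set u := φ U
  set h := φ H
  set w := a (five hn cyc5) with hw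
  set s := a (five hn inv5) with hsd
  have hcomm : Commute h (w * h * w⁻¹) := hh
  have hψ0 := psi_zero hadd
  have hact1 : ∀ c, (w * h * w⁻¹) * ψ c * (w * h * w⁻¹)⁻¹ = ψ ((ω : F)⁻¹ * c) := by
    intro c
    obtain ⟨P, rfl⟩ := hsurj c
    have horb : ∀ i : ℕ, (w * h * w⁻¹) * (h ^ i * u * (h ^ i)⁻¹) * (w * h * w⁻¹)⁻¹ =
        ψ ((ω : F)⁻¹ * ((ω : F) ^ 2) ^ i) := by
      intro i
      induction i with
      | zero => simpa using hu1
      | succ i ih =>
        have e : (w * h * w⁻¹) * (h ^ (i + 1) * u * (h ^ (i + 1))⁻¹) * (w * h * w⁻¹)⁻¹ =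
            h * ((w * h * w⁻¹) * (h ^ i * u * (h ^ i)⁻¹) * (w * h * w⁻¹)⁻¹) * h⁻¹ := by
          rw [pow_succ']
          calc (w * h * w⁻¹) * (h * h ^ i * u * (h * h ^ i)⁻¹) * (w * h * w⁻¹)⁻¹
              = ((w * h * w⁻¹) * h) * (h ^ i * u * (h ^ i)⁻¹) * ((w * h * w⁻¹) * h)⁻¹ := by group
            _ = (h * (w * h * w⁻¹)) * (h ^ i * u * (h ^ i)⁻¹) * (h * (w * h * w⁻¹))⁻¹ := by rw [hcomm.eq]
            _ = _ := by group
        rw [e, ih, hact, pow_succ]
        congr 1
        ring
    induction P using Polynomial.induction_on' with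
    | add P Q hP hQ =>
      rw [map_add, hadd, mul_add, hadd, ← hP, ← hQ]; group
    | monomial i c =>
      have hψn : ∀ (n : ℕ) (x : F), ψ (n • x) = ψ x ^ n := fun n x => by
        induction n with
        | zero => rw [zero_nsmul, pow_zero]; exact hψ0
        | succ n ih => rw [succ_nsmul, hadd, ih, pow_succ]
      have hlamP : ∀ i : ℕ, ψ (((ω : F) ^ 2) ^ i) = h ^ i * u * (h ^ i)⁻¹ := fun i => by
        induction i with
        | zero => simp [hone]
        | succ i ih => rw [pow_succ', ← hact, ih, pow_succ']; group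
      rw [Polynomial.aeval_monomial, ← ZMod.natCast_zmod_val c, map_natCast, ← nsmul_eq_mul, mul_smul_comm,
        hψn, hψn, hlamP, ← conj_pow, horb]
  let D : Data ω G :=
    { ψ := ψ, w := w, s := s, h := h, add := hadd
      w3 := by rw [hw, ← map_mul, ← map_mul, ← map_mul, ← map_mul, cyc5_three, map_one, map_one]
      s2 := by rw [hsd, ← map_mul, ← map_mul, inv5_two, map_one, map_one]
      sw := by rw [hw, hsd, ← map_inv, ← map_inv, ← map_mul, ← map_mul, ← map_inv, ← map_inv, ← map_mul, ← map_mul, inv5_cyc5]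
      hh := hcomm, sh := eq_inv_of_mul_eq_one_left sh, h3 := h3, act0 := hact, act1 := hact1 }
  have hfix : ∀ π : alternatingGroup (Fin n), (π : Perm (Fin n)) (q hn 0) = q hn 0 →
      (π : Perm (Fin n)) (q hn 1) = q hn 1 → a π * u * (a π)⁻¹ = u ∧ a π * h * (a π)⁻¹ = h := by
    intro π e0 e1
    have hle : Subgroup.closure ({g1, g2} : Set (alternatingGroup (Fin n))) ≤ (Subgroup.centralizer {u, h}).comap a := by
      rw [Subgroup.closure_le]
      rintro x (rfl | rfl) <;> simp only [SetLike.mem_coe, Subgroup.mem_comap, Subgroup.mem_centralizer_iff,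
        Set.mem_insert_iff, Set.mem_singleton_iff, forall_eq_or_imp, forall_eq]
      · exact ⟨(mul_inv_eq_iff_eq_mul.1 f1u).symm, (mul_inv_eq_iff_eq_mul.1 f1h).symm⟩
      · exact ⟨(mul_inv_eq_iff_eq_mul.1 f2u).symm, (mul_inv_eq_iff_eq_mul.1 f2h).symm⟩
    have := hle (hstab π e0 e1)
    simp only [Subgroup.mem_comap, Subgroup.mem_centralizer_iff, Set.mem_insert_iff, Set.mem_singleton_iff,
      forall_eq_or_imp, forall_eq] at this
    exact ⟨mul_inv_eq_iff_eq_mul.2 this.1.symm, mul_inv_eq_iff_eq_mul.2 this.2.symm⟩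
  let St : Setup ω n G :=
    { hn := hn, D := D, a := a, w_eq := rfl, s_eq := rfl
      fixh := fun π e0 e1 => (hfix π e0 e1).2
      fixψ := fun π e0 e1 c => by
        obtain ⟨P, rfl⟩ := hsurj c
        show a π * ψ _ * (a π)⁻¹ = ψ _
        rw [hpoly]
        show MulAut.conj (a π) (polyWord h u 1 P) = _
        rw [← MulEquiv.coe_toMonoidHom, map_polyWord]
        simp only [MulEquiv.coe_toMonoidHom, MulAut.conj_apply, (hfix π e0 e1).1, (hfix π e0 e1).2] }
  obtain ⟨hrow, hcol, hK⟩ := hclose (φ.comp inc4) D (fun c => hpw c)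
    (by show φ (inc4 (.of 2)) = w; simp [inc4, W, haW, hw])
    (by show φ (inc4 (.of 3)) = s; simp [inc4, S, haW, hsd])
    (fun y hy => hφ _ (Finset.mem_union_right _ (Finset.mem_image_of_mem _ hy)))
  have hspan : ∀ Ts : AddSubgroup F, (∀ j : ℕ, ((ω : F) ^ 2) ^ j ∈ Ts) → Ts = ⊤ := fun Ts hT => by
    refine eq_top_iff.2 fun z _ => ?_
    obtain ⟨P, rfl⟩ := hsurj z
    rw [Polynomial.aeval_eq_sum_range]
    refine sum_mem fun i _ => ?_
    rw [← ZMod.natCast_zmod_val (P.coeff i), Nat.cast_smul_eq_nsmul]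
    exact nsmul_mem (hT i) _
  have hu : St.D.ψ 1 = u := hone
  have hquad : Commute (St.D.ψ 1) (St.X (q St.hn 2) (q St.hn 3) 1) := by
    rw [St.X_eq (π := five hn exch5) (i := q St.hn 2) (j := q St.hn 3) (five_q hn exch5 0) (five_q hn exch5 1), hu]
    exact hq'
  have hgen : Subgroup.closure (Set.range St.a ∪ {St.D.ψ 1, St.D.h}) = ⊤ := by
    rw [eq_top_iff, ← PresentedGroup.closure_range_of (↑rels : Set (FreeGroup (Fin (2 + k))))]
    refine Subgroup.closure_mono ?_
    rintro _ ⟨i, rfl⟩
    refine Fin.addCases (fun i => ?_) (fun i => ?_) i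
    · right
      fin_cases i
      · exact Or.inl hone.symm
      · exact Or.inr rfl
    · left
      refine ⟨eA (PresentedGroup.of i), ?_⟩
      show a _ = _
      simp only [a, MonoidHom.comp_apply, MulEquiv.coe_toMonoidHom, MulEquiv.symm_apply_apply]
      exact PresentedGroup.toGroup.of _
  have hneg : ψ (-1) = u⁻¹ := by
    refine eq_inv_of_mul_eq_one_left ?_
    rw [← hone, ← hadd, neg_add_cancel]
    exact hψ0
  have x10 : St.X (q St.hn 1) (q St.hn 0) (-1) = s * u⁻¹ * s⁻¹ := by
    rw [← hneg]; exact (St.X_r (i := 1) (j := 0) (by decide) (-1)).symm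
  have hxc : ∀ (π : alternatingGroup (Fin n)) {i j : Fin n}, (π : Perm (Fin n)) (q hn 0) = i → (π : Perm (Fin n)) (q hn 1) = j →
      St.X i j 1 * St.X j i (-1) * St.X i j 1 = a π * (u * (s * u⁻¹ * s⁻¹) * u) * (a π)⁻¹ := by
    intro π i j e e'
    have e1 : a π * St.X (q St.hn 0) (q St.hn 1) 1 * (a π)⁻¹ = St.X i j 1 := by
      rw [← e, ← e']; exact St.X_conj π h01 1
    have e2 : a π * St.X (q St.hn 1) (q St.hn 0) (-1) * (a π)⁻¹ = St.X j i (-1) := by
      rw [← e, ← e']; exact St.X_conj π h10 (-1)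
    rw [← e1, ← e2, x10, St.X01, hu]
    group
  have hs' : St.D.s = (St.X (q St.hn 0) (q St.hn 1) 1 * St.X (q St.hn 1) (q St.hn 0) (-1) * St.X (q St.hn 0) (q St.hn 1) 1) *
      (St.X (q St.hn 3) (q St.hn 4) 1 * St.X (q St.hn 4) (q St.hn 3) (-1) * St.X (q St.hn 3) (q St.hn 4) 1) *
      (St.X (q St.hn 0) (q St.hn 3) 1 * St.X (q St.hn 3) (q St.hn 0) (-1) * St.X (q St.hn 0) (q St.hn 3) 1) *
      (St.X (q St.hn 0) (q St.hn 3) 1 * St.X (q St.hn 3) (q St.hn 0) (-1) * St.X (q St.hn 0) (q St.hn 3) 1) := by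
    rw [hxc a34 ha3 ha4, hxc a03 hb0 hb3, x10, St.X01, hu]
    exact hs
  obtain ⟨hfin, hle⟩ := St.card_le hrow hcol hK hspan hquad hgen hs'
  let π : G →* SpecialLinearGroup (Fin n) F := PresentedGroup.toGroup (f := f0) (rels := (↑rels : Set (FreeGroup (Fin (2 + k))))) hrels1
  have hrange : ∀ v, M v ∈ π.range := fun v => ⟨φ v,
    DFunLike.congr_fun (FreeGroup.ext_hom (π.comp φ) M fun i => by
      rw [MonoidHom.comp_apply]; exact (PresentedGroup.toGroup.of hrels1).trans FreeGroup.lift_apply_of.symm) v⟩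
  have hsur : Function.Surjective π := by
    rw [← MonoidHom.range_eq_top]
    refine GL.SL_eq_top_of_transvection_mem fun i j hij c => ?_
    obtain ⟨ρ, e0, e1⟩ := exists_pair hn i j hij
    rw [← htr ρ h01 hij e0 e1 c, ← hMp c, ← hMW ρ]
    exact mul_mem (mul_mem (hrange _) (hrange _)) (inv_mem (hrange _))
  exact ⟨MulEquiv.ofBijective π (hsur.bijective_of_nat_card_le hle)⟩

end Cfsg.Agent.SLnPresentation
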