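/-
`A₅` on two generators with three relations, hence `SL₅` on four generators with nineteen.
-/
import Cfsg.Agent.Lib.SLnPresentation.Main
import Cfsg.Agent.Lib.Presented.A5

set_option autoImplicit false
set_option linter.unusedSectionVars false

namespace Cfsg.Agent.SLnPresentation

/-- The presentation `(3, 5, 2)` of `A₅`. -/
theorem alt_five : ∃ rels : Finset (FreeGroup (Fin 2)), rels.card ≤ 3 ∧
    Nonempty (PresentedGroup (↑rels : Set (FreeGroup (Fin 2))) ≃* alternatingGroup (Fin 5)) := by
  classical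
  obtain ⟨a, b, ha, hb, hab, hgen⟩ := Presented.A5.exists_gens
  let x : FreeGroup (Fin 2) := .of 0
  let y : FreeGroup (Fin 2) := .of 1
  set R : Finset (FreeGroup (Fin 2)) := {x ^ 3, y ^ 5, (x * y) ^ 2} with hR
  refine ⟨R, Finset.card_le_three, ?_⟩
  have hrel : ∀ w ∈ (↑R : Set (FreeGroup (Fin 2))), FreeGroup.lift ![a, b] w = 1 := by
    intro w hw
    simp only [hR, Finset.coe_insert, Finset.coe_singleton, Set.mem_insert_iff, Set.mem_singleton_iff] at hw
    rcases hw with rfl | rfl | rfl <;> simp [x, y, ha, hb, hab]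
  have h1 : ∀ w ∈ R, PresentedGroup.mk (↑R : Set (FreeGroup (Fin 2))) w = 1 :=
    fun w hw => PresentedGroup.one_of_mem hw
  simp only [hR, Finset.forall_mem_insert, Finset.mem_singleton, forall_eq, map_mul, map_pow] at h1
  have hG : Subgroup.closure ({PresentedGroup.of (rels := (↑R : Set (FreeGroup (Fin 2)))) 0, PresentedGroup.of 1} : Set _) = ⊤ := by
    rw [eq_top_iff, ← PresentedGroup.closure_range_of]
    refine Subgroup.closure_mono ?_
    rintro _ ⟨i, rfl⟩
    fin_cases i
    · exact Or.inl rfl
    · exact Or.inr rfl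
  have hsur : Function.Surjective (PresentedGroup.toGroup hrel) := by
    rw [← MonoidHom.range_eq_top, eq_top_iff, ← hgen, Subgroup.closure_le]
    rintro z (rfl | rfl)
    · exact ⟨_, PresentedGroup.toGroup.of hrel (x := (0 : Fin 2))⟩
    · exact ⟨_, PresentedGroup.toGroup.of hrel (x := (1 : Fin 2))⟩
  exact ⟨MulEquiv.ofBijective _ (Presented.A5.bijective_of_surjective hG h1.1 h1.2.1 h1.2.2 _ hsur)⟩

/-- `SL₅` on four generators with nineteen relations. -/
theorem exists_presentation_five {F : Type*} [Field F] [Fintype F] :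
    ∃ rels : Finset (FreeGroup (Fin 4)), rels.card ≤ 19 ∧
      Nonempty (PresentedGroup (↑rels : Set (FreeGroup (Fin 4))) ≃* Matrix.SpecialLinearGroup (Fin 5) F) := by
  obtain ⟨RA, hc, ⟨e⟩⟩ := alt_five
  exact exists_presentation (F := F) le_rfl hc e

end Cfsg.Agent.SLnPresentation
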