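/-
Four points: a group generated by a copy of the `SL₃` data and a copy of `A₄`, with two gluing
relations and two commutations, is no larger than `SL₄`.
-/
import Cfsg.Agent.Lib.SL3Presentation.Core
import Mathlib.GroupTheory.SpecificGroups.Alternating

set_option autoImplicit false
set_option linter.unusedSectionVars false

namespace Cfsg.Agent.SLnPresentation.Four

open Equiv Cfsg.Agent.SL2Presentation Cfsg.Agent.SL3Presentation

/-- The cycle `0 1 2`. -/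
def cw : alternatingGroup (Fin 4) := ⟨swap 0 1 * swap 1 2, by rw [Perm.mem_alternatingGroup]; decide⟩

/-- The cycle `0 1 3`. -/
def cv : alternatingGroup (Fin 4) := ⟨swap 0 1 * swap 1 3, by rw [Perm.mem_alternatingGroup]; decide⟩

/-- The double transposition `(0 2)(1 3)`. -/
def cg : alternatingGroup (Fin 4) := cw * cv

/-- The double transposition `(0 1)(2 3)`. -/
def cc : alternatingGroup (Fin 4) := cw * cg * cw⁻¹

theorem cg_apply : (cg : Perm (Fin 4)) 0 = 2 ∧ (cg : Perm (Fin 4)) 1 = 3 ∧ (cg : Perm (Fin 4)) 2 = 0 ∧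
    (cg : Perm (Fin 4)) 3 = 1 := by decide

theorem cc_apply : (cc : Perm (Fin 4)) 0 = 1 ∧ (cc : Perm (Fin 4)) 1 = 0 ∧ (cc : Perm (Fin 4)) 2 = 3 ∧
    (cc : Perm (Fin 4)) 3 = 2 := by decide

theorem exists_pair (i j : Fin 4) (h : i ≠ j) :
    ∃ π : alternatingGroup (Fin 4), (π : Perm (Fin 4)) 0 = i ∧ (π : Perm (Fin 4)) 1 = j := by
  revert i j h; decide +kernel

theorem stab_trivial (π : alternatingGroup (Fin 4)) (h0 : (π : Perm (Fin 4)) 0 = 0)
    (h1 : (π : Perm (Fin 4)) 1 = 1) : π = 1 := by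
  revert π h0 h1; decide +kernel

theorem exists_triple (i j l : Fin 4) (hij : i ≠ j) (hjl : j ≠ l) (hil : i ≠ l) :
    ∃ π : alternatingGroup (Fin 4), ∃ a b c : Fin 3, a ≠ b ∧ b ≠ c ∧ a ≠ c ∧
      (π : Perm (Fin 4)) (Fin.castLE (by decide) a) = i ∧ (π : Perm (Fin 4)) (Fin.castLE (by decide) b) = j ∧
      (π : Perm (Fin 4)) (Fin.castLE (by decide) c) = l := by
  revert i j l hij hjl hil; decide +kernel

theorem exists_quad (i j k l : Fin 4) (hij : i ≠ j) (hik : i ≠ k) (hil : i ≠ l) (hjk : j ≠ k) (hjl : j ≠ l)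
    (hkl : k ≠ l) : ∃ π : alternatingGroup (Fin 4),
      ((π : Perm (Fin 4)) 0 = i ∧ (π : Perm (Fin 4)) 1 = j ∧ (π : Perm (Fin 4)) 2 = k ∧ (π : Perm (Fin 4)) 3 = l) ∨
      ((π : Perm (Fin 4)) 1 = i ∧ (π : Perm (Fin 4)) 0 = j ∧ (π : Perm (Fin 4)) 2 = k ∧ (π : Perm (Fin 4)) 3 = l) := by
  revert i j k l hij hik hil hjk hjl hkl; decide +kernel

theorem cw_conj_cv : ∃ k : alternatingGroup (Fin 4), k * cw * k⁻¹ = cv ∨ k * cw * k⁻¹ = cv⁻¹ := by
  decide +kernel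

/-- The inclusion of the three points. -/
def r (i : Fin 3) : Fin 4 := Fin.castLE (by decide) i

variable {F : Type*} [Field F] {G : Type*} [Group G]

/-- The data on four points. -/
structure Setup (ω : Fˣ) (G : Type*) [Group G] where
  D : Data ω G
  a : alternatingGroup (Fin 4) →* G
  w_eq : D.w = a cw
  glueψ : ∀ t, a cc * D.ψ t * (a cc)⁻¹ = D.s * D.ψ t * D.s⁻¹
  glueh : a cc * D.h * (a cc)⁻¹ = D.h⁻¹

namespace Setup

variable {ω : Fˣ} (S : Setup ω G)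

/-- The root groups. -/
noncomputable def X (i j : Fin 4) (t : F) : G :=
  if h : i ≠ j then S.a (exists_pair i j h).choose * S.D.ψ t * (S.a (exists_pair i j h).choose)⁻¹ else 1

theorem X_eq {π : alternatingGroup (Fin 4)} {i j : Fin 4} (h0 : (π : Perm (Fin 4)) 0 = i)
    (h1 : (π : Perm (Fin 4)) 1 = j) (t : F) : S.X i j t = S.a π * S.D.ψ t * (S.a π)⁻¹ := by
  have hij : i ≠ j := by rw [← h0, ← h1]; exact (π : Perm (Fin 4)).injective.ne (by decide)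
  rw [X, dif_pos hij]
  obtain ⟨e0, e1⟩ := (exists_pair i j hij).choose_spec
  set ρ := (exists_pair i j hij).choose
  have h := stab_trivial (ρ⁻¹ * π)
    (by rw [Subgroup.coe_mul, Subgroup.coe_inv, Perm.mul_apply, h0, ← e0, Perm.inv_def, Equiv.symm_apply_apply])
    (by rw [Subgroup.coe_mul, Subgroup.coe_inv, Perm.mul_apply, h1, ← e1, Perm.inv_def, Equiv.symm_apply_apply])
  rw [inv_mul_eq_one] at h
  rw [h]

theorem X_conj (π : alternatingGroup (Fin 4)) {i j : Fin 4} (hij : i ≠ j) (t : F) :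
    S.a π * S.X i j t * (S.a π)⁻¹ = S.X ((π : Perm (Fin 4)) i) ((π : Perm (Fin 4)) j) t := by
  obtain ⟨ρ, e0, e1⟩ := exists_pair i j hij
  rw [S.X_eq e0 e1, S.X_eq (π := π * ρ) (i := (π : Perm (Fin 4)) i) (j := (π : Perm (Fin 4)) j)
    (by rw [Subgroup.coe_mul, Perm.mul_apply, e0]) (by rw [Subgroup.coe_mul, Perm.mul_apply, e1]), map_mul]
  group

theorem X_add {i j : Fin 4} (hij : i ≠ j) (t u : F) : S.X i j (t + u) = S.X i j t * S.X i j u := by
  obtain ⟨ρ, e0, e1⟩ := exists_pair i j hij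
  rw [S.X_eq e0 e1, S.X_eq e0 e1, S.X_eq e0 e1, S.D.add]
  group

theorem X01 (t : F) : S.X 0 1 t = S.D.ψ t := by
  rw [S.X_eq (π := 1) (by simp) (by simp)]; simp

theorem r_ne {i j : Fin 3} (h : i ≠ j) : r i ≠ r j := fun e => h (Fin.castLE_injective _ e)

theorem X_r {i j : Fin 3} (hij : i ≠ j) (t : F) : S.D.x i j t = S.X (r i) (r j) t := by
  have hw : ∀ {i j : Fin 3}, i ≠ j → ∀ t, S.D.w * S.X (r i) (r j) t * S.D.w⁻¹ = S.X (r (i + 1)) (r (j + 1)) t :=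
    fun {i j} h t => by
      have e : ∀ i : Fin 3, (cw : Perm (Fin 4)) (r i) = r (i + 1) := by decide
      rw [S.w_eq, S.X_conj _ (r_ne h), e, e]
  have e01 : ∀ t, S.D.ψ t = S.X (r 0) (r 1) t := fun t => (S.X01 t).symm
  have e10 : ∀ t, S.D.s * S.D.ψ t * S.D.s⁻¹ = S.X (r 1) (r 0) t := fun t => by
    rw [← S.glueψ, S.X_eq (π := cc) (i := r 1) (j := r 0) cc_apply.1 cc_apply.2.1]
  fin_cases i <;> fin_cases j <;> simp at hij
  · exact e01 t
  · show S.D.w * (S.D.w * (S.D.s * S.D.ψ t * S.D.s⁻¹) * S.D.w⁻¹) * S.D.w⁻¹ = _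
    rw [e10, hw (by decide), hw (by decide)]; rfl
  · exact e10 t
  · show S.D.w * S.D.ψ t * S.D.w⁻¹ = _
    rw [e01, hw (by decide)]; rfl
  · show S.D.w * (S.D.w * S.D.ψ t * S.D.w⁻¹) * S.D.w⁻¹ = _
    rw [e01, hw (by decide), hw (by decide)]; rfl
  · show S.D.w * (S.D.s * S.D.ψ t * S.D.s⁻¹) * S.D.w⁻¹ = _
    rw [e10, hw (by decide)]; rfl

/-- `g` scales the root group `ij` by `χ`. -/
def Wt (g : G) (i j : Fin 4) (χ : F) : Prop := ∀ t, g * S.X i j t * g⁻¹ = S.X i j (χ * t)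

theorem Wt.transport {g : G} {i j : Fin 4} {χ : F} (h : S.Wt g i j χ) (π : alternatingGroup (Fin 4))
    (hij : i ≠ j) : S.Wt (S.a π * g * (S.a π)⁻¹) ((π : Perm (Fin 4)) i) ((π : Perm (Fin 4)) j) χ := fun t => by
  rw [← S.X_conj π hij, ← S.X_conj π hij, ← h t]
  group

theorem Wt.inv {g : G} {i j : Fin 4} {χ : F} (h : S.Wt g i j χ) (hχ : χ ≠ 0) : S.Wt g⁻¹ i j χ⁻¹ := fun t => by
  have e := h (χ⁻¹ * t)
  rw [mul_inv_cancel_left₀ hχ] at e
  rw [← e]; group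

theorem wt_of_acts {g : G} {i j : Fin 3} {χ : F} (hij : i ≠ j) (h : S.D.Acts g i j χ) :
    S.Wt g (r i) (r j) χ := fun t => by
  rw [← S.X_r hij, ← S.X_r hij]; exact h t

theorem h_cc {i j : Fin 4} {χ : F} (hij : i ≠ j) (h : S.Wt S.D.h i j χ) (hχ : χ ≠ 0) :
    S.Wt S.D.h ((cc : Perm (Fin 4)) i) ((cc : Perm (Fin 4)) j) χ⁻¹ := by
  have := Wt.inv S (Wt.transport S h cc hij) hχ
  rwa [S.glueh, inv_inv] at this

theorem h_table : S.Wt S.D.h 0 1 ((ω : F) ^ 2) ∧ S.Wt S.D.h 1 0 (((ω : F) ^ 2)⁻¹) ∧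
    S.Wt S.D.h 0 2 (ω : F) ∧ S.Wt S.D.h 1 2 ((ω : F)⁻¹) ∧ S.Wt S.D.h 2 0 ((ω : F)⁻¹) ∧ S.Wt S.D.h 2 1 (ω : F) ∧
    S.Wt S.D.h 1 3 ((ω : F)⁻¹) ∧ S.Wt S.D.h 0 3 (ω : F) ∧ S.Wt S.D.h 3 1 (ω : F) ∧ S.Wt S.D.h 3 0 ((ω : F)⁻¹) := by
  have hω : (ω : F) ≠ 0 := ω.ne_zero
  have hs : ∀ {i j i' j' : Fin 3}, (∀ a, S.D.s * S.D.x i j a * S.D.s⁻¹ = S.D.x i' j' a) →
      ∀ {χ : F}, χ ≠ 0 → S.D.Acts S.D.h i j χ → S.D.Acts S.D.h i' j' χ⁻¹ := fun {i j i' j'} hk {χ} hχ h => by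
    have h' := Data.Acts.transport S.D hk (Data.Acts.inv S.D h hχ)
    rwa [show S.D.s * S.D.h⁻¹ * S.D.s⁻¹ = (S.D.s * S.D.h * S.D.s⁻¹)⁻¹ by group, S.D.sh, inv_inv] at h'
  have h20 : S.D.Acts S.D.h 2 0 ((ω : F)⁻¹) := by
    have h := Data.Acts.transport S.D (k := S.D.w * S.D.w) (i' := 2) (j' := 0) (fun a => by
      rw [Data.x20, Data.x01]; group) S.D.h1_01
    rwa [Data.h1, show S.D.w * S.D.w * (S.D.w * S.D.h * S.D.w⁻¹) * (S.D.w * S.D.w)⁻¹ =
      S.D.w * (S.D.w * (S.D.w * S.D.h * S.D.w⁻¹) * S.D.w⁻¹) * S.D.w⁻¹ by group, Data.w_conj_three] at h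
  have h10 : S.D.Acts S.D.h 1 0 (((ω : F) ^ 2)⁻¹) :=
    hs (fun a => S.D.s_conj_x 0 1 (by decide) a) (pow_ne_zero 2 hω) S.D.h_01
  have h21 : S.D.Acts S.D.h 2 1 (ω : F) := by
    have := hs (fun a => by rw [S.D.s_conj_x 2 0 (by decide)]) (inv_ne_zero hω) h20
    rwa [inv_inv] at this
  have w01 : S.Wt S.D.h 0 1 ((ω : F) ^ 2) := S.wt_of_acts (i := 0) (j := 1) (by decide) S.D.h_01
  have w10 : S.Wt S.D.h 1 0 (((ω : F) ^ 2)⁻¹) := S.wt_of_acts (i := 1) (j := 0) (by decide) h10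
  have w02 : S.Wt S.D.h 0 2 (ω : F) := S.wt_of_acts (i := 0) (j := 2) (by decide) S.D.h_02
  have w12 : S.Wt S.D.h 1 2 ((ω : F)⁻¹) := S.wt_of_acts (i := 1) (j := 2) (by decide) S.D.h_12
  have w20 : S.Wt S.D.h 2 0 ((ω : F)⁻¹) := S.wt_of_acts (i := 2) (j := 0) (by decide) h20
  have w21 : S.Wt S.D.h 2 1 (ω : F) := S.wt_of_acts (i := 2) (j := 1) (by decide) h21
  obtain ⟨c0, c1, c2, -⟩ := cc_apply
  refine ⟨w01, w10, w02, w12, w20, w21, ?_, ?_, ?_, ?_⟩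
  · have := S.h_cc (by decide) w02 hω
    rwa [c0, c2] at this
  · have := S.h_cc (by decide) w12 (inv_ne_zero hω)
    rwa [c1, c2, inv_inv] at this
  · have := S.h_cc (by decide) w20 (inv_ne_zero hω)
    rwa [c0, c2, inv_inv] at this
  · have := S.h_cc (by decide) w21 hω
    rwa [c1, c2] at this

variable (hrow : S.D.RowComm) (hcol : S.D.ColComm) (hK : ∀ a b, S.D.K a b)

include hrow hcol hK

theorem X_chain {i j l : Fin 4} (hij : i ≠ j) (hjl : j ≠ l) (hil : i ≠ l) (t u : F) :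
    S.X i j t * S.X j l u = S.X i l (t * u) * S.X j l u * S.X i j t := by
  obtain ⟨π, a, b, c, hab, hbc, hac, rfl, rfl, rfl⟩ := exists_triple i j l hij hjl hil
  have h : S.D.x a b t * S.D.x b c u = S.D.x a c (t * u) * S.D.x b c u * S.D.x a b t :=
    (S.D.rels hrow hcol hK).chain a b c hab hbc hac t u
  rw [S.X_r hab, S.X_r hbc, S.X_r hac] at h
  have := congrArg (MulAut.conj (S.a π)) h
  simp only [map_mul, MulAut.conj_apply] at this
  rw [S.X_conj π (r_ne hab), S.X_conj π (r_ne hbc), S.X_conj π (r_ne hac)] at this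
  exact this

theorem X_three {i j l : Fin 4} (hij : i ≠ j) (hjl : j ≠ l) (hil : i ≠ l) (t u : F) :
    Commute (S.X i j t) (S.X i l u) ∧ Commute (S.X j l t) (S.X i l u) := by
  obtain ⟨π, a, b, c, hab, hbc, hac, rfl, rfl, rfl⟩ := exists_triple i j l hij hjl hil
  have key : ∀ {a b c d : Fin 3}, a ≠ b → c ≠ d → a ≠ d → b ≠ c →
      Commute (S.X ((π : Perm (Fin 4)) (r a)) ((π : Perm (Fin 4)) (r b)) t)
        (S.X ((π : Perm (Fin 4)) (r c)) ((π : Perm (Fin 4)) (r d)) u) := fun {a b c d} h1 h2 h3 h4 => by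
    have h : Commute (S.D.x a b t) (S.D.x c d u) := (S.D.rels hrow hcol hK).comm a b c d h1 h2 h3 h4 t u
    rw [S.X_r h1, S.X_r h2] at h
    have h' := h.map (MulAut.conj (S.a π)).toMonoidHom
    simp only [MulEquiv.coe_toMonoidHom, MulAut.conj_apply] at h'
    rwa [S.X_conj π (r_ne h1), S.X_conj π (r_ne h2)] at h'
  exact ⟨key hab hac hac hab.symm, key hbc hac hbc hac.symm⟩

theorem X_comm_expand {i j l : Fin 4} (hij : i ≠ j) (hjl : j ≠ l) (hil : i ≠ l) (t : F) :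
    S.X i l t = S.X i j t * S.X j l 1 * (S.X i j t)⁻¹ * (S.X j l 1)⁻¹ := by
  rw [S.X_chain hrow hcol hK hij hjl hil, mul_one]
  group

theorem h_chain {i j l : Fin 4} (hij : i ≠ j) (hjl : j ≠ l) (hil : i ≠ l) {χ : F} (hχ : χ ≠ 0)
    (h1 : S.Wt S.D.h i j χ) (h2 : S.Wt S.D.h j l χ⁻¹) : S.Wt S.D.h i l 1 := by
  intro t
  rw [one_mul]
  have e := S.X_chain hrow hcol hK hij hjl hil (χ * t) (χ⁻¹ * 1)
  rw [show χ * t * (χ⁻¹ * 1) = t by field_simp, ← h1 t, ← h2 1] at e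
  have e' := S.X_comm_expand hrow hcol hK hij hjl hil t
  calc S.D.h * S.X i l t * S.D.h⁻¹
      = S.D.h * (S.X i j t * S.X j l 1 * (S.X i j t)⁻¹ * (S.X j l 1)⁻¹) * S.D.h⁻¹ := by rw [← e']
    _ = (S.D.h * S.X i j t * S.D.h⁻¹) * (S.D.h * S.X j l 1 * S.D.h⁻¹) *
          (S.D.h * S.X i j t * S.D.h⁻¹)⁻¹ * (S.D.h * S.X j l 1 * S.D.h⁻¹)⁻¹ := by group
    _ = S.X i l t := by rw [e]; group

theorem h23 : S.Wt S.D.h 2 3 1 ∧ S.Wt S.D.h 3 2 1 := by
  have hω : (ω : F)⁻¹ ≠ 0 := inv_ne_zero ω.ne_zero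
  obtain ⟨-, -, w02, -, w20, -, -, w03, -, w30⟩ := S.h_table
  exact ⟨S.h_chain hrow hcol hK (j := 0) (by decide) (by decide) (by decide) hω w20 (by rwa [inv_inv]),
    S.h_chain hrow hcol hK (j := 0) (by decide) (by decide) (by decide) hω w30 (by rwa [inv_inv])⟩

theorem h_wt (i j : Fin 4) (hij : i ≠ j) : ∃ χ, S.Wt S.D.h i j χ := by
  obtain ⟨a, b, c, d, e, f, g, k, l, m⟩ := S.h_table
  obtain ⟨n1, n2⟩ := S.h23 hrow hcol hK
  fin_cases i <;> fin_cases j <;> simp at hij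
  exacts [⟨_, a⟩, ⟨_, c⟩, ⟨_, k⟩, ⟨_, b⟩, ⟨_, d⟩, ⟨_, g⟩, ⟨_, e⟩, ⟨_, f⟩, ⟨_, n1⟩, ⟨_, m⟩, ⟨_, l⟩, ⟨_, n2⟩]

variable (hspan : ∀ T : AddSubgroup F, (∀ k : ℕ, ((ω : F) ^ 2) ^ k ∈ T) → T = ⊤)
  (hspan' : ∀ T : AddSubgroup F, (∀ k : ℕ, (((ω : F) ^ 2)⁻¹) ^ k ∈ T) → T = ⊤)
  (hquad : Commute (S.D.ψ 1) (S.X 2 3 1)) (hquad' : Commute (S.X 1 0 1) (S.X 2 3 1))

include hspan hspan' hquad hquad'

theorem quad_base (t u : F) : Commute (S.X 0 1 t) (S.X 2 3 u) ∧ Commute (S.X 1 0 t) (S.X 2 3 u) := by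
  obtain ⟨n1, n2⟩ := S.h23 hrow hcol hK
  obtain ⟨w01, w10, -⟩ := S.h_table
  obtain ⟨g0, g1, g2, g3⟩ := cg_apply
  set k' := S.a cg * S.D.h * (S.a cg)⁻¹
  have hin : S.Wt k' 2 3 ((ω : F) ^ 2) := by
    have := Wt.transport S w01 cg (by decide)
    rwa [g0, g1] at this
  have f01 : S.Wt k' 0 1 1 := by
    have := Wt.transport S n1 cg (by decide)
    rwa [g2, g3] at this
  have f10 : S.Wt k' 1 0 1 := by
    have := Wt.transport S n2 cg (by decide)
    rwa [g2, g3] at this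
  have wpow : ∀ {g : G} {i j : Fin 4} {χ : F}, S.Wt g i j χ → ∀ m : ℕ, S.Wt (g ^ m) i j (χ ^ m) := by
    intro g i j χ h m
    induction m with
    | zero => intro t; simp
    | succ m ih =>
      intro t
      calc g ^ (m + 1) * S.X i j t * (g ^ (m + 1))⁻¹ = g ^ m * (g * S.X i j t * g⁻¹) * (g ^ m)⁻¹ := by
            rw [pow_succ]; group
        _ = _ := by rw [h, ih, pow_succ, mul_assoc]
  have ext : ∀ {i j k l : Fin 4}, i ≠ j → ∀ c : F, Commute (S.X i j 1) (S.X k l c) → ∀ {g : G} {χ : F},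
      (∀ T : AddSubgroup F, (∀ k : ℕ, χ ^ k ∈ T) → T = ⊤) →
      S.Wt g i j χ → S.Wt g k l 1 → ∀ t, Commute (S.X i j t) (S.X k l c) := by
    intro i j k l hij c hc g χ hsp hg hg' t
    let T : AddSubgroup F :=
      { carrier := {z | Commute (S.X i j z) (S.X k l c)}
        add_mem' := fun {z z'} (hz : Commute (S.X i j z) _) (hz' : Commute (S.X i j z') _) => by
          show Commute (S.X i j (z + z')) _
          rw [S.X_add hij]; exact hz.mul_left hz'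
        zero_mem' := by
          show Commute (S.X i j 0) _
          rw [psi_zero (S.X_add hij)]; exact Commute.one_left _
        neg_mem' := fun {z} (hz : Commute (S.X i j z) _) => by
          show Commute (S.X i j (-z)) _
          rw [show S.X i j (-z) = (S.X i j z)⁻¹ from eq_inv_of_mul_eq_one_left (by
            rw [← S.X_add hij, neg_add_cancel, psi_zero (S.X_add hij)])]
          exact hz.inv_left }
    have hT : T = ⊤ := hsp T fun m => by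
      have := hc.map (MulAut.conj (g ^ m)).toMonoidHom
      simp only [MulEquiv.coe_toMonoidHom, MulAut.conj_apply] at this
      rw [wpow hg, wpow hg', one_pow, one_mul, mul_one] at this
      exact this
    exact (hT ▸ AddSubgroup.mem_top t : t ∈ T)
  have s1 : ∀ t, Commute (S.X 0 1 t) (S.X 2 3 1) :=
    ext (by decide) 1 (by rw [S.X01]; exact hquad) hspan w01 n1
  have s2 : ∀ t, Commute (S.X 1 0 t) (S.X 2 3 1) := ext (by decide) 1 hquad' hspan' w10 n1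
  exact ⟨(ext (by decide) t (s1 t).symm hspan hin f01 u).symm, (ext (by decide) t (s2 t).symm hspan hin f10 u).symm⟩

/-- Steinberg's relations. -/
noncomputable def rels : Rels F 4 G where
  x := S.X
  add i j hij := S.X_add hij
  comm i j k l hij hkl hil hjk t u := by
    by_cases hik : i = k
    · subst hik
      by_cases hjl : j = l
      · subst hjl; rw [← S.X_add hij, add_comm, S.X_add hij]
      exact (S.X_three hrow hcol hK hij hjl hil t u).1.eq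
    by_cases hjl : j = l
    · subst hjl
      exact (S.X_three hrow hcol hK (Ne.symm hik) hij hkl t u).2.eq
    obtain ⟨π, hπ⟩ := exists_quad i j k l hij hik hil hjk hjl hkl
    have h := S.quad_base hrow hcol hK hspan hspan' hquad hquad' t u
    rcases hπ with ⟨rfl, rfl, rfl, rfl⟩ | ⟨rfl, rfl, rfl, rfl⟩
    · have := h.1.map (MulAut.conj (S.a π)).toMonoidHom
      simp only [MulEquiv.coe_toMonoidHom, MulAut.conj_apply] at this
      rw [S.X_conj π (by decide), S.X_conj π (by decide)] at this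
      exact this.eq
    · have := h.2.map (MulAut.conj (S.a π)).toMonoidHom
      simp only [MulEquiv.coe_toMonoidHom, MulAut.conj_apply] at this
      rw [S.X_conj π (by decide), S.X_conj π (by decide)] at this
      exact this.eq
  chain i j l hij hjl hil := S.X_chain hrow hcol hK hij hjl hil

omit hspan hspan' hquad hquad'

theorem gen_eq_top (hgen : Subgroup.closure ({S.D.ψ 1, S.D.h, S.D.w, S.D.s, S.a cv} : Set G) = ⊤)
    (hs : S.D.s = S.D.sWord) :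
    Subgroup.closure {g : G | ∃ i j, i ≠ j ∧ ∃ t, g = S.X i j t} = ⊤ := by
  set N := Subgroup.closure {g : G | ∃ i j, i ≠ j ∧ ∃ t, g = S.X i j t} with hN
  have hx : ∀ i j, i ≠ j → ∀ t, S.X i j t ∈ N := fun i j hij t => Subgroup.subset_closure ⟨i, j, hij, t, rfl⟩
  have hD : ∀ i j : Fin 3, i ≠ j → ∀ t, S.D.x i j t ∈ N := fun i j hij t => by
    rw [S.X_r hij]; exact hx _ _ (r_ne hij) t
  have hsN : S.D.s ∈ N := by
    rw [hs]
    refine mul_mem (mul_mem (mul_mem (mul_mem ?_ ?_) ?_) ?_) ?_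
    any_goals exact hD _ _ (by decide) _
    all_goals exact mul_mem (mul_mem (hD _ _ (by decide) _) (hD _ _ (by decide) _)) (hD _ _ (by decide) _)
  have haN : ∀ π, ∀ z ∈ N, S.a π * z * (S.a π)⁻¹ ∈ N := fun π z => conj_mem_of_closure _ (by
    rintro _ ⟨i, j, hij, t, rfl⟩
    rw [S.X_conj π hij]
    exact hx _ _ ((π : Perm (Fin 4)).injective.ne hij) _)
  have hhN : ∀ z ∈ N, S.D.h * z * S.D.h⁻¹ ∈ N := fun z => conj_mem_of_closure _ (by
    rintro _ ⟨i, j, hij, t, rfl⟩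
    obtain ⟨χ, hχ⟩ := S.h_wt hrow hcol hK i j hij
    rw [hχ]; exact hx _ _ hij _)
  have hw : S.D.w ∈ N := by
    have hwN : ∀ z ∈ N, S.D.w * z * S.D.w⁻¹ ∈ N := fun z hz => by rw [S.w_eq]; exact haN _ z hz
    have h1 : S.D.s * (S.D.w * S.D.s⁻¹ * S.D.w⁻¹) ∈ N := mul_mem hsN (hwN _ (inv_mem hsN))
    rw [show S.D.s * (S.D.w * S.D.s⁻¹ * S.D.w⁻¹) = S.D.s * S.D.w * S.D.s⁻¹ * S.D.w⁻¹ by group, S.D.sw] at h1
    have h2 : S.D.w⁻¹ * S.D.w⁻¹ = S.D.w := by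
      rw [← mul_inv_rev, inv_eq_of_mul_eq_one_left]
      rw [← mul_assoc, S.D.w3]
    rwa [h2] at h1
  have hv : S.a cv ∈ N := by
    obtain ⟨k, hk⟩ := cw_conj_cv
    have h1 := haN k _ (show S.a cw ∈ N by rwa [← S.w_eq])
    rw [← map_inv, ← map_mul, ← map_mul] at h1
    rcases hk with e | e <;> rw [e] at h1
    · exact h1
    · rw [map_inv] at h1; simpa using inv_mem h1
  have hh : S.D.h ∈ N := by
    have h2 : S.D.h⁻¹ * S.D.h⁻¹ ∈ N := by
      have h1 : S.D.s * (S.D.h * S.D.s⁻¹ * S.D.h⁻¹) ∈ N := mul_mem hsN (hhN _ (inv_mem hsN))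
      rwa [show S.D.s * (S.D.h * S.D.s⁻¹ * S.D.h⁻¹) = S.D.s * S.D.h * S.D.s⁻¹ * S.D.h⁻¹ by group, S.D.sh] at h1
    have c1 : S.D.h * (S.D.w * S.D.h * S.D.w⁻¹) = S.D.h * S.D.w * S.D.h⁻¹ * (S.D.h * S.D.h) * S.D.w⁻¹ := by group
    have m1 : S.D.h * (S.D.w * S.D.h * S.D.w⁻¹) ∈ N := by
      rw [c1]
      refine mul_mem (mul_mem (hhN _ hw) ?_) (inv_mem hw)
      simpa using inv_mem h2
    have m2 : S.D.w * (S.D.w * S.D.h * S.D.w⁻¹) * S.D.w⁻¹ ∈ N := by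
      have := inv_mem m1
      rwa [inv_eq_of_mul_eq_one_right S.D.h3] at this
    have e : S.D.h = S.D.w⁻¹ * S.D.w⁻¹ * (S.D.w * (S.D.w * S.D.h * S.D.w⁻¹) * S.D.w⁻¹) * (S.D.w * S.D.w) := by group
    rw [e]
    exact mul_mem (mul_mem (mul_mem (inv_mem hw) (inv_mem hw)) m2) (mul_mem hw hw)
  rw [eq_top_iff, ← hgen, Subgroup.closure_le]
  rintro z (rfl | rfl | rfl | rfl | rfl)
  · rw [← S.X01]; exact hx _ _ (by decide) 1
  exacts [hh, hw, hsN, hv]

include hspan hspan' hquad hquad'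

/-- The order bound. -/
theorem card_le [Fintype F] (hgen : Subgroup.closure ({S.D.ψ 1, S.D.h, S.D.w, S.D.s, S.a cv} : Set G) = ⊤)
    (hs : S.D.s = S.D.sWord) :
    Finite G ∧ Nat.card G ≤ Nat.card (Matrix.SpecialLinearGroup (Fin 4) F) := by
  let R := S.rels hrow hcol hK hspan hspan' hquad hquad'
  let T : StN F 4 G :=
    { R with
      rel := fun i j hij t u ht => by
        obtain ⟨k, hki, hkj⟩ : ∃ k : Fin 4, k ≠ i ∧ k ≠ j := by revert hij; revert i j; decide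
        exact R.rel_of_third hij hki hkj t u ht
      gen := S.gen_eq_top hrow hcol hK hgen hs }
  obtain ⟨hf, hle⟩ := StN.card_bound 3 T
  exact ⟨hf, hle.trans (le_of_eq (by rw [GL.card_SL_prod]))⟩

end Setup

end Cfsg.Agent.SLnPresentation.Four
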