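/-
`SL₄`: five generators and twenty relations.
-/
import Cfsg.Agent.Lib.SLnPresentation.FourBound
import Cfsg.Agent.Lib.SLnPresentation.Model
import Cfsg.Agent.Lib.SL3Presentation.Main
import Cfsg.Agent.Lib.BoundedPres.AltGen

set_option autoImplicit false
set_option linter.unusedSectionVars false

namespace Cfsg.Agent.SLnPresentation.Four

open Equiv Matrix Cfsg.Agent.SL2Presentation Cfsg.Agent.SL3Presentation
open scoped MatrixGroups Classical IsMulCommutative

variable {F : Type*} [Field F]

local notation "T" => Matrix.SpecialLinearGroup.transvection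

/-- The relations of `A₄` on two three-cycles through a common pair. -/
def relsA : Finset (FreeGroup (Fin 2)) :=
  {.of 0 * .of 0 * .of 0, .of 1 * .of 1 * .of 1, .of 0 * .of 1 * (.of 0 * .of 1)}

theorem alt_four : ∃ e : PresentedGroup (↑relsA : Set (FreeGroup (Fin 2))) ≃* alternatingGroup (Fin 4),
    e (PresentedGroup.of 0) = cw ∧ e (PresentedGroup.of 1) = cv := by
  set S : Set (FreeGroup (Fin 2)) := (↑relsA : Set (FreeGroup (Fin 2)))
  have hrel : ∀ x ∈ S, FreeGroup.lift ![cw, cv] x = 1 := by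
    intro x hx
    simp only [S, relsA, Finset.coe_insert, Finset.coe_singleton, Set.mem_insert_iff, Set.mem_singleton_iff] at hx
    rcases hx with rfl | rfl | rfl <;> simp only [map_mul, FreeGroup.lift_apply_of, Matrix.cons_val] <;> decide
  set π : PresentedGroup S →* alternatingGroup (Fin 4) := PresentedGroup.toGroup hrel with hπd
  have h1 : ∀ x ∈ relsA, PresentedGroup.mk S x = 1 := fun x hx => PresentedGroup.one_of_mem hx
  simp only [relsA, Finset.forall_mem_insert, Finset.mem_singleton, forall_eq, map_mul] at h1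
  obtain ⟨r0, r1, r2⟩ := h1
  let a : PresentedGroup S := PresentedGroup.of 0
  let b : PresentedGroup S := PresentedGroup.of 1
  have ra : a * a * a = 1 := r0
  have rb : b * b * b = 1 := r1
  have rab : a * b * (a * b) = 1 := r2
  have rba : b * a * (b * a) = 1 := by
    calc b * a * (b * a) = a⁻¹ * (a * b * (a * b)) * a := by group
      _ = 1 := by rw [rab]; group
  have hgen : Subgroup.closure (Set.range ![a, b]) = ⊤ := by
    rw [eq_top_iff, ← PresentedGroup.closure_range_of S]
    refine Subgroup.closure_mono ?_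
    rintro _ ⟨i, rfl⟩
    exact ⟨i, by fin_cases i <;> rfl⟩
  obtain ⟨hfin, hle⟩ := BoundedPres.finite_of_carmichael ![a, b]
    (fun i => by fin_cases i; exacts [ra, rb]) (fun i j hij => by
      fin_cases i <;> fin_cases j <;> simp at hij
      exacts [rab, rba]) hgen
  have hsur : Function.Surjective π := by
    intro x
    have hall : ∀ x : alternatingGroup (Fin 4), x ∈ ({1, cw, cw * cw, cv, cv * cv, cw * cv, cv * cw,
        cw * cw * cv, cw * cv * cv, cv * cw * cw, cv * cv * cw, cw * (cw * cv) * (cw * cw)} : Finset _) := by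
      decide +kernel
    have h0 : cw ∈ π.range := ⟨a, PresentedGroup.toGroup.of hrel⟩
    have h1 : cv ∈ π.range := ⟨b, PresentedGroup.toGroup.of hrel⟩
    have := hall x
    simp only [Finset.mem_insert, Finset.mem_singleton] at this
    rcases this with e | e | e | e | e | e | e | e | e | e | e | e <;> subst e
    exacts [one_mem π.range, h0, mul_mem h0 h0, h1, mul_mem h1 h1, mul_mem h0 h1, mul_mem h1 h0,
      mul_mem (mul_mem h0 h0) h1, mul_mem (mul_mem h0 h1) h1, mul_mem (mul_mem h1 h0) h0,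
      mul_mem (mul_mem h1 h1) h0, mul_mem (mul_mem h0 (mul_mem h0 h1)) (mul_mem h0 h0)]
  have hcard : Nat.card (alternatingGroup (Fin 2 ⊕ Fin 2)) = Nat.card (alternatingGroup (Fin 4)) :=
    Nat.card_congr (Equiv.altCongrHom (finSumFinEquiv : Fin 2 ⊕ Fin 2 ≃ Fin 4)).toEquiv
  have := hfin
  refine ⟨MulEquiv.ofBijective π (hsur.bijective_of_nat_card_le (hle.trans_eq hcard)), ?_, ?_⟩ <;>
    exact PresentedGroup.toGroup.of hrel

/-- The embedding of the first three points. -/
def e34 : Matrix.SpecialLinearGroup (Fin 3) F →* Matrix.SpecialLinearGroup (Fin 4) F where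
  toFun A := ⟨!![A.1 0 0, A.1 0 1, A.1 0 2, 0; A.1 1 0, A.1 1 1, A.1 1 2, 0; A.1 2 0, A.1 2 1, A.1 2 2, 0; 0, 0, 0, 1], by
    have h := A.2
    rw [det_fin_three] at h
    simp [det_succ_row_zero, Fin.sum_univ_succ, Fin.succAbove]
    linear_combination h⟩
  map_one' := Subtype.ext (by ext i j; fin_cases i <;> fin_cases j <;> simp)
  map_mul' A B := Subtype.ext (by
    show !![(A.1 * B.1) 0 0, (A.1 * B.1) 0 1, (A.1 * B.1) 0 2, 0; (A.1 * B.1) 1 0, (A.1 * B.1) 1 1, (A.1 * B.1) 1 2, 0;
        (A.1 * B.1) 2 0, (A.1 * B.1) 2 1, (A.1 * B.1) 2 2, 0; 0, 0, 0, 1] =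
      !![A.1 0 0, A.1 0 1, A.1 0 2, 0; A.1 1 0, A.1 1 1, A.1 1 2, 0; A.1 2 0, A.1 2 1, A.1 2 2, 0; 0, 0, 0, 1] *
      !![B.1 0 0, B.1 0 1, B.1 0 2, 0; B.1 1 0, B.1 1 1, B.1 1 2, 0; B.1 2 0, B.1 2 1, B.1 2 2, 0; 0, 0, 0, 1]
    ext i j
    fin_cases i <;> fin_cases j <;> simp [Matrix.mul_apply, Fin.sum_univ_three, Fin.sum_univ_four])

theorem e34_Wm : e34 (Wm : Matrix.SpecialLinearGroup (Fin 3) F) = permN cw := by
  refine Subtype.ext (Matrix.ext fun i j => ?_)
  have e : ∀ i j : Fin 4, ((cw : Perm (Fin 4))⁻¹ i = j) ↔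
      (i, j) ∈ ({(1, 0), (2, 1), (0, 2), (3, 3)} : Finset (Fin 4 × Fin 4)) := by decide
  show !![(Wm : Matrix.SpecialLinearGroup (Fin 3) F).1 0 0, _, _, _; _, _, _, _; _, _, _, _; _, _, _, _] i j =
    ((cw : Perm (Fin 4))⁻¹.permMatrix F) i j
  rw [Equiv.Perm.permMatrix, PEquiv.toMatrix_apply]
  simp only [Equiv.toPEquiv_apply, Option.mem_some_iff, e]
  fin_cases i <;> fin_cases j <;> simp [Wm]

theorem e34_T01 (h : (0 : Fin 3) ≠ 1) (a : F) : e34 (T h a) = T (show (0 : Fin 4) ≠ 1 by decide) a := by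
  refine Subtype.ext ?_
  show !![(T h a).1 0 0, _, _, _; _, _, _, _; _, _, _, _; _, _, _, _] = _
  rw [SpecialLinearGroup.transvection_coe, SpecialLinearGroup.transvection_coe]
  ext i j
  fin_cases i <;> fin_cases j <;> simp [Matrix.single_apply]

theorem e34_T10 (h : (1 : Fin 3) ≠ 0) (a : F) : e34 (T h a) = T (show (1 : Fin 4) ≠ 0 by decide) a := by
  refine Subtype.ext ?_
  show !![(T h a).1 0 0, _, _, _; _, _, _, _; _, _, _, _; _, _, _, _] = _
  rw [SpecialLinearGroup.transvection_coe, SpecialLinearGroup.transvection_coe]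
  ext i j
  fin_cases i <;> fin_cases j <;> simp [Matrix.single_apply]

variable [Fintype F]

/-- The presentation. -/
theorem exists_presentation :
    ∃ rels : Finset (FreeGroup (Fin 5)), rels.card ≤ 20 ∧
      Nonempty (PresentedGroup (↑rels : Set (FreeGroup (Fin 5))) ≃* Matrix.SpecialLinearGroup (Fin 4) F) := by
  obtain ⟨p, hc⟩ := CharP.exists F
  haveI := hc
  haveI : Fact p.Prime := ⟨CharP.char_is_prime F p⟩
  letI := ZMod.algebra F p
  obtain ⟨ω, hω'⟩ := IsCyclic.exists_generator (α := Fˣ)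
  have hω : orderOf ω = Fintype.card F - 1 := by
    rw [orderOf_eq_card_of_forall_mem_zpowers hω', Nat.card_eq_fintype_card, Fintype.card_units]
  obtain ⟨R0, X, hpk, hX, hcard, hclose⟩ := exists_close ω hω p
  obtain ⟨eA, heW, heV⟩ := alt_four
  have hsurj := aeval_sq_surjective (p := p) ω hω
  let U : FreeGroup (Fin 5) := .of 0
  let H : FreeGroup (Fin 5) := .of 1
  let W : FreeGroup (Fin 5) := .of 2
  let S : FreeGroup (Fin 5) := .of 3
  let V : FreeGroup (Fin 5) := .of 4
  let inc5 : FG4 →* FreeGroup (Fin 5) := FreeGroup.map Fin.castSucc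
  let C : FreeGroup (Fin 5) := W * (W * V) * W⁻¹
  let extra : Finset (FreeGroup (Fin 5)) :=
    {V * V * V, W * V * (W * V), C * U * C⁻¹ * (S * U * S⁻¹)⁻¹, C * H * C⁻¹ * H,
     U * (W * V * U * (W * V)⁻¹) * (W * V * U * (W * V)⁻¹ * U)⁻¹,
     S * U * S⁻¹ * (W * V * U * (W * V)⁻¹) * (W * V * U * (W * V)⁻¹ * (S * U * S⁻¹))⁻¹}
  set rels := (baseRels ω p).image inc5 ∪ extra ∪ R0.image (inc5.comp inc) ∪ X.image inc5 with hrels
  refine ⟨rels, ?_, ?_⟩
  · have hb : extra.card ≤ 6 := by
      iterate 5 refine (Finset.card_insert_le _ _).trans (Nat.succ_le_succ ?_)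
      rw [Finset.card_singleton]
    have h1 := Finset.card_union_le ((baseRels ω p).image inc5 ∪ extra ∪ (R0.image (inc5.comp inc))) (X.image inc5)
    have h2 := Finset.card_union_le ((baseRels ω p).image inc5 ∪ extra) (R0.image (inc5.comp inc))
    have h3 := Finset.card_union_le ((baseRels ω p).image inc5) extra
    have h4 : ((baseRels ω p).image inc5).card ≤ 8 := Finset.card_image_le.trans (baseRels_card ω)
    have h5 := Finset.card_image_le (s := R0) (f := inc5.comp inc)
    have h6 := Finset.card_image_le (s := X) (f := inc5)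
    rw [hrels]
    omega
  -- the model
  let f0 : Fin 5 → Matrix.SpecialLinearGroup (Fin 4) F :=
    ![e34 (emb (uL 1)), e34 (emb (dL ω)), e34 Wm, e34 Sm, permN cv]
  let M := FreeGroup.lift f0
  have hM4 : ∀ v, M (inc5 v) = e34 (model4 ω v) := by
    have : M.comp inc5 = e34.comp (model4 ω) := FreeGroup.ext_hom _ _ fun i => by
      fin_cases i <;> simp [M, inc5, f0, model4]
    exact fun v => DFunLike.congr_fun this v
  have h01 : (0 : Fin 4) ≠ 1 := by decide
  have h10 : (1 : Fin 4) ≠ 0 := by decide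
  have h23 : (2 : Fin 4) ≠ 3 := by decide
  have hTc : ∀ {i j i' j' : Fin 4} (h : i ≠ j) (h' : i' ≠ j') (a : F), i = i' → j = j' → T h a = T h' a := by
    rintro i j _ _ h h' a rfl rfl; rfl
  have htr : ∀ (π : alternatingGroup (Fin 4)) {i j i' j' : Fin 4} (h : i ≠ j) (h' : i' ≠ j'),
      (π : Perm (Fin 4)) i = i' → (π : Perm (Fin 4)) j = j' → ∀ a : F, permN π * T h a * (permN π)⁻¹ = T h' a := by
    intro π i j i' j' h h' e e' a
    rw [permN_transvection]
    exact hTc _ _ a e e'
  have hU : M U = T h01 1 := by simp [M, U, f0]; rw [emb_uL, e34_T01]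
  have hWV : M (W * V) = permN cg := by
    rw [map_mul, show M W = permN cw by simp [M, W, f0, e34_Wm], show M V = permN cv by simp [M, V, f0], ← map_mul]
    rfl
  have hC : M C = permN cc := by
    simp only [C, map_mul, map_inv] at hWV ⊢
    rw [hWV, show M W = permN cw by simp [M, W, f0, e34_Wm], cc, map_mul, map_mul, map_inv]
  have hSUS : M (S * U * S⁻¹) = T h10 1 := by
    rw [map_mul, map_mul, map_inv, show M S = e34 Sm by simp [M, S, f0],
      show M U = e34 (emb (uL 1)) by simp [M, U, f0], emb_uL, ← map_inv, ← map_mul, ← map_mul, S_conj, e34_T10]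
  have hX23 : M (W * V * U * (W * V)⁻¹) = T h23 1 := by
    rw [map_mul, map_mul, map_inv, hWV, hU]
    exact htr cg h01 h23 cg_apply.1 cg_apply.2.1 1
  have hH : (M H).1 = diagonal ![(ω : F), (ω : F)⁻¹, 1, 1] := by
    rw [show M H = e34 (emb (dL ω)) by simp [M, H, f0]]
    have hd : (dL ω : SL(2, F)).1 = !![(ω : F), 0; 0, (ω : F)⁻¹] := dL_coe ω
    show !![(emb (dL ω)).1 0 0, _, _, _; _, _, _, _; _, _, _, _; _, _, _, _] = _
    rw [emb_coe, hd]
    ext i j
    fin_cases i <;> fin_cases j <;> simp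
  have hrels1 : ∀ x ∈ rels, M x = 1 := by
    intro x hx
    simp only [hrels, Finset.mem_union, Finset.mem_image] at hx
    rcases hx with ((⟨y, hy, rfl⟩ | hx) | ⟨y, hy, rfl⟩) | ⟨y, hy, rfl⟩
    · rw [hM4, model4_base ω hω y hy, map_one]
    · simp only [extra, Finset.mem_insert, Finset.mem_singleton] at hx
      rcases hx with rfl | rfl | rfl | rfl | rfl | rfl
      · rw [map_mul, map_mul, show M V = permN cv by simp [M, V, f0], ← map_mul, ← map_mul,
          show cv * cv * cv = 1 by decide, map_one]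
      · rw [map_mul, hWV, ← map_mul, show cg * cg = 1 by decide, map_one]
      · rw [map_mul, map_inv, mul_inv_eq_one, hSUS, map_mul, map_mul, map_inv, hC, hU]
        exact htr cc h01 h10 cc_apply.1 cc_apply.2.1 1
      · rw [map_mul, map_mul, map_mul, map_inv, hC]
        refine Subtype.ext ?_
        rw [vmul, permN_diagonal cc _ _ hH, hH, diagonal_mul_diagonal, vone, ← diagonal_one]
        refine congrArg diagonal (funext fun x => ?_)
        have e : ∀ x : Fin 4, (cc : Perm (Fin 4))⁻¹ x = ![1, 0, 3, 2] x := by decide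
        rw [Function.comp_apply, e]
        have := ω.ne_zero
        fin_cases x <;> simp [this]
      · rw [map_mul, map_inv, mul_inv_eq_one, map_mul M U, map_mul M (W * V * U * (W * V)⁻¹) U, hX23, hU]
        refine Subtype.ext ?_
        simp only [vmul, SpecialLinearGroup.transvection_coe, mul_add, add_mul, one_mul, mul_one,
          single_mul_single_of_ne _ _ _ _ (show (1 : Fin 4) ≠ 2 by decide),
          single_mul_single_of_ne _ _ _ _ (show (3 : Fin 4) ≠ 0 by decide)]
        abel
      · rw [map_mul, map_inv, mul_inv_eq_one, map_mul M (S * U * S⁻¹), map_mul M (W * V * U * (W * V)⁻¹) (S * U * S⁻¹), hX23, hSUS]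
        refine Subtype.ext ?_
        simp only [vmul, SpecialLinearGroup.transvection_coe, mul_add, add_mul, one_mul, mul_one,
          single_mul_single_of_ne _ _ _ _ (show (0 : Fin 4) ≠ 2 by decide),
          single_mul_single_of_ne _ _ _ _ (show (3 : Fin 4) ≠ 1 by decide)]
        abel
    · rw [MonoidHom.comp_apply, hM4, model4_inc, hpk.1 y hy, map_one, map_one]
    · rcases hX y hy with ⟨b, rfl⟩ | rfl | rfl
      · rw [hM4, (model4_extra ω hω b).1, map_one]
      · rw [hM4, (model4_extra ω hω 1).2.1, map_one]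
      · rw [hM4, (model4_extra ω hω 1).2.2, map_one]
  -- the abstract group
  set G := PresentedGroup (↑rels : Set (FreeGroup (Fin 5)))
  set φ : FreeGroup (Fin 5) →* G := PresentedGroup.mk _ with hφd
  have hφ : ∀ x ∈ rels, φ x = 1 := fun x hx => PresentedGroup.one_of_mem hx
  obtain ⟨D, hpw, hone, hhD, hwD, hsD, hsW⟩ := exists_data ω hω hpk (φ.comp inc5)
    (fun y hy => hφ _ (Finset.mem_union_left _ (Finset.mem_union_left _ (Finset.mem_union_left _
      (Finset.mem_image_of_mem _ hy)))))
    (fun y hy => hφ _ (Finset.mem_union_left _ (Finset.mem_union_right _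
      (Finset.mem_image_of_mem (inc5.comp inc) hy))))
  obtain ⟨hrow, hcol, hK⟩ := hclose (φ.comp inc5) D hpw hwD hsD
    (fun y hy => hφ _ (Finset.mem_union_right _ (Finset.mem_image_of_mem _ hy)))
  simp only [MonoidHom.comp_apply, inc5, FreeGroup.map.of] at hone hhD hwD hsD
  have e0 : φ U = D.ψ 1 := hone
  have e1 : φ H = D.h := hhD
  have e2 : φ W = D.w := hwD
  have e3 : φ S = D.s := hsD
  have hx' : ∀ x ∈ extra, φ x = 1 :=
    fun x hx => hφ x (Finset.mem_union_left _ (Finset.mem_union_left _ (Finset.mem_union_right _ hx)))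
  simp only [extra, C, Finset.forall_mem_insert, Finset.mem_singleton, forall_eq, map_mul, map_inv, mul_inv_eq_one,
    e0, e1, e2, e3] at hx'
  obtain ⟨v3, wv2, gu, gh, hq1, hq2⟩ := hx'
  let f : Fin 2 → G := ![D.w, φ V]
  have hf : ∀ x ∈ (↑relsA : Set (FreeGroup (Fin 2))), FreeGroup.lift f x = 1 := by
    intro x hx
    simp only [relsA, Finset.coe_insert, Finset.coe_singleton, Set.mem_insert_iff, Set.mem_singleton_iff] at hx
    rcases hx with rfl | rfl | rfl <;> simp only [map_mul, FreeGroup.lift_apply_of, f, Matrix.cons_val]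
    exacts [D.w3, v3, wv2]
  let a : alternatingGroup (Fin 4) →* G := (PresentedGroup.toGroup hf).comp eA.symm.toMonoidHom
  have haw : a cw = D.w := by
    show PresentedGroup.toGroup hf (eA.symm cw) = _
    rw [← heW, eA.symm_apply_apply, PresentedGroup.toGroup.of]; rfl
  have hav : a cv = φ V := by
    show PresentedGroup.toGroup hf (eA.symm cv) = _
    rw [← heV, eA.symm_apply_apply, PresentedGroup.toGroup.of]; rfl
  have hacg : a cg = D.w * φ V := by rw [cg, map_mul, haw, hav]
  have hacc : a cc = D.w * (D.w * φ V) * D.w⁻¹ := by rw [cc, map_mul, map_mul, map_inv, hacg, haw]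
  rw [← hacc] at gu gh
  rw [← hacg] at hq1 hq2
  have hglueh : a cc * D.h * (a cc)⁻¹ = D.h⁻¹ := eq_inv_of_mul_eq_one_left gh
  let St : Setup ω G :=
    { D := D, a := a, w_eq := haw.symm, glueh := hglueh
      glueψ := fun c => by
        obtain ⟨P, rfl⟩ := hsurj c
        have hword : D.ψ (Polynomial.aeval ((ω : F) ^ 2) P) = polyWord D.h (D.ψ 1) 1 P := by
          have h := hpw (Polynomial.aeval ((ω : F) ^ 2) P)
          have hP := hsurj (Polynomial.aeval ((ω : F) ^ 2) P)
          rw [pw, dif_pos hP, map_polyWord, map_polyWord] at h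
          have e : φ (inc5 (inc gH)) = D.h := by simp [inc, inc5]; exact hhD
          have e' : φ (inc5 (inc gU)) = D.ψ 1 := by simp [inc, inc5]; exact hone
          simp only [MonoidHom.comp_apply, e, e'] at h
          obtain ⟨-, hR⟩ := hpk
          obtain ⟨ψ', hadd', hone', -, hpoly'⟩ := hR ((φ.comp inc5).comp inc) (fun y hy => hφ _ (Finset.mem_union_left _
            (Finset.mem_union_right _ (Finset.mem_image_of_mem (inc5.comp inc) hy))))
          simp only [MonoidHom.comp_apply, e, e'] at hpoly'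
          rw [← h, ← hpoly', hP.choose_spec, hpoly']
        rw [hword]
        show MulAut.conj (a cc) _ = MulAut.conj D.s _
        rw [← MulEquiv.coe_toMonoidHom, ← MulEquiv.coe_toMonoidHom, map_polyWord, map_polyWord]
        simp only [MulEquiv.coe_toMonoidHom, MulAut.conj_apply, gu, hglueh, D.sh] }
  have hspan : ∀ Ts : AddSubgroup F, (∀ j : ℕ, ((ω : F) ^ 2) ^ j ∈ Ts) → Ts = ⊤ := fun Ts hT => by
    refine eq_top_iff.2 fun z _ => ?_
    obtain ⟨P, rfl⟩ := hsurj z
    rw [Polynomial.aeval_eq_sum_range]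
    refine sum_mem fun i _ => ?_
    rw [← ZMod.natCast_zmod_val (P.coeff i), Nat.cast_smul_eq_nsmul]
    exact nsmul_mem (hT i) _
  have hspan' : ∀ Ts : AddSubgroup F, (∀ j : ℕ, (((ω : F) ^ 2)⁻¹) ^ j ∈ Ts) → Ts = ⊤ := fun Ts hT =>
    hspan Ts fun j => by
      have h2 : Fintype.card F - 1 ≥ 1 := by have := Fintype.one_lt_card (α := F); omega
      have e : (((ω : F) ^ 2)⁻¹) ^ ((Fintype.card F - 1 - 1) * j) = ((ω : F) ^ 2) ^ j := by
        rw [pow_mul, inv_pow]
        congr 1
        refine inv_eq_of_mul_eq_one_right ?_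
        rw [← pow_succ, show Fintype.card F - 1 - 1 + 1 = Fintype.card F - 1 by omega]
        exact FiniteField.pow_card_sub_one_eq_one _ (pow_ne_zero 2 ω.ne_zero)
      exact e ▸ hT _
  have x23 : St.X 2 3 1 = a cg * D.ψ 1 * (a cg)⁻¹ := St.X_eq cg_apply.1 cg_apply.2.1 1
  have hquad : Commute (St.D.ψ 1) (St.X 2 3 1) := by rw [x23]; exact hq1
  have x10 : St.X 1 0 1 = D.s * D.ψ 1 * D.s⁻¹ := by
    rw [← St.glueψ]; exact St.X_eq cc_apply.1 cc_apply.2.1 1
  have hquad' : Commute (St.X 1 0 1) (St.X 2 3 1) := by rw [x10, x23]; exact hq2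
  have hgen : Subgroup.closure ({St.D.ψ 1, St.D.h, St.D.w, St.D.s, St.a cv} : Set G) = ⊤ := by
    rw [eq_top_iff, ← PresentedGroup.closure_range_of (↑rels : Set (FreeGroup (Fin 5)))]
    refine Subgroup.closure_mono ?_
    rintro _ ⟨i, rfl⟩
    fin_cases i
    · exact Or.inl e0
    · exact Or.inr (Or.inl e1)
    · exact Or.inr (Or.inr (Or.inl e2))
    · exact Or.inr (Or.inr (Or.inr (Or.inl e3)))
    · exact Or.inr (Or.inr (Or.inr (Or.inr hav.symm)))
  obtain ⟨hfin, hle⟩ := St.card_le hrow hcol hK hspan hspan' hquad hquad' hgen hsW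
  let π : G →* Matrix.SpecialLinearGroup (Fin 4) F :=
    PresentedGroup.toGroup (f := f0) (rels := (↑rels : Set (FreeGroup (Fin 5)))) hrels1
  have hrange : ∀ v, M v ∈ π.range := fun v => ⟨φ v,
    DFunLike.congr_fun (FreeGroup.ext_hom (π.comp φ) M fun i => by
      rw [MonoidHom.comp_apply]; exact (PresentedGroup.toGroup.of hrels1).trans FreeGroup.lift_apply_of.symm) v⟩
  have hsur : Function.Surjective π := by
    rw [← MonoidHom.range_eq_top]
    refine GL.SL_eq_top_of_transvection_mem fun i j hij c => ?_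
    have hA : ∀ g, permN (F := F) g ∈ π.range := by
      intro g
      obtain ⟨z, rfl⟩ := eA.surjective g
      obtain ⟨v, rfl⟩ := PresentedGroup.mk_surjective _ z
      induction v using FreeGroup.induction_on with
      | C1 => rw [map_one, map_one, map_one]; exact one_mem _
      | of i =>
        fin_cases i
        · show permN (eA (PresentedGroup.of 0)) ∈ π.range
          rw [heW, ← e34_Wm, show e34 (Wm : Matrix.SpecialLinearGroup (Fin 3) F) = M W by simp [M, W, f0]]
          exact hrange _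
        · show permN (eA (PresentedGroup.of 1)) ∈ π.range
          rw [heV, show permN (F := F) cv = M V by simp [M, V, f0]]
          exact hrange _
      | inv_of i h => rw [map_inv, map_inv, map_inv]; exact inv_mem h
      | mul x y hx hy => rw [map_mul, map_mul, map_mul]; exact mul_mem hx hy
    have hT : ∀ c : F, T h01 c ∈ π.range := fun c => by
      rw [← e34_T01 (show (0 : Fin 3) ≠ 1 by decide), ← model4_pw (p := p) ω hω c, ← hM4]
      exact hrange _
    obtain ⟨ρ, r0, r1⟩ := exists_pair i j hij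
    rw [← htr ρ h01 hij r0 r1 c]
    exact mul_mem (mul_mem (hA ρ) (hT c)) (inv_mem (hA ρ))
  exact ⟨MulEquiv.ofBijective π (hsur.bijective_of_nat_card_le hle)⟩

end Cfsg.Agent.SLnPresentation.Four
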